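import Cfsg.Agent.Chev.Poly
import Cfsg.Agent.Chev.TorusCard
import Cfsg.Agent.Chev.WeylOrders
import Cfsg.Agent.Chev.Check.B2

/-! Orbit, Cartan and Coxeter certificates of `chevB2`; computed from the frozen tables and checked by the kernel. -/

set_option autoImplicit false
set_option maxRecDepth 100000

namespace Cfsg.Agent.Chev

open Cfsg.Lie

/-- Orbit level 0. -/
def b2Level0 : Level where
  k := 0
  pts := [[.ofNat (nat_lit 1), .ofNat (nat_lit 0)], [.negSucc (nat_lit 0), .ofNat (nat_lit 1)], [.ofNat (nat_lit 1), .negSucc (nat_lit 0)], [.negSucc (nat_lit 0), .ofNat (nat_lit 0)]]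
  par := [(nat_lit 0, nat_lit 0), (nat_lit 1, nat_lit 1), (nat_lit 2, nat_lit 0)]
  succ := [[nat_lit 1, nat_lit 0], [nat_lit 0, nat_lit 2], [nat_lit 3, nat_lit 1], [nat_lit 2, nat_lit 3]]
  deg := [nat_lit 0, nat_lit 1, nat_lit 2, nat_lit 3]

/-- Orbit level 1. -/
def b2Level1 : Level where
  k := 1
  pts := [[.ofNat (nat_lit 0), .ofNat (nat_lit 1)], [.ofNat (nat_lit 2), .negSucc (nat_lit 0)]]
  par := [(nat_lit 0, nat_lit 1)]
  succ := [[nat_lit 1], [nat_lit 0]]
  deg := [nat_lit 0, nat_lit 1]

/-- The chain of orbits. -/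
def b2Levels : List Level := [b2Level0, b2Level1]

/-- Coroot coordinates of the negative roots. -/
def b2Rows : List (List ℤ) := [[.negSucc (nat_lit 0), .negSucc (nat_lit 0)], [.negSucc (nat_lit 0), .negSucc (nat_lit 1)], [.negSucc (nat_lit 0), .ofNat (nat_lit 0)], [.ofNat (nat_lit 0), .negSucc (nat_lit 0)]]

theorem b2_rows : chkRows chevB2 b2Cert b2Rows = true := by decide +kernel

theorem b2_chain : chkChain chevB2 b2Cert b2Rows b2Levels = true := by decide +kernel

theorem b2_all : allBelow (fun i => (b2Levels.map Level.k).contains i) chevB2.rank = true := by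
  decide +kernel

theorem b2_factor : chkFactor (b2Levels.map Level.deg) chevB2.rank [2, 4] = true := by
  decide +kernel

theorem b2_weyl_size : (b2Levels.map fun L => L.deg.length).prod = 8 := by
  decide +kernel

theorem b2_smith : chkSmith chevB2 b2Cert [[-1, 0], [2, 1]]
    [[-1, 0], [2, 1]]
    [[0, 1], [1, 2]]
    [[-2, 1], [1, 0]] [1, 2] = true := by
  decide +kernel

/-- Orders of the products of two fundamental reflections. -/
def b2Cox : List (List ℕ) := [[1, 4], [4, 1]]

theorem b2_cox : chkCox chevB2 b2Cert (fun i j => (b2Cox.getD i []).getD j 0) = true := by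
  decide +kernel

theorem b2_coxeterElement : chkOrd chevB2 b2Cert (List.range chevB2.rank) 4 = true := by
  decide +kernel

end Cfsg.Agent.Chev
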