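import Cfsg.Agent.Chev.Poly
import Cfsg.Agent.Chev.TorusCard
import Cfsg.Agent.Chev.WeylOrders
import Cfsg.Agent.Chev.Check.D4

/-! Orbit, Cartan and Coxeter certificates of `chevD4`; computed from the frozen tables and checked by the kernel. -/

set_option autoImplicit false
set_option maxRecDepth 100000

namespace Cfsg.Agent.Chev

open Cfsg.Lie

/-- Orbit level 0. -/
def d4Level0 : Level where
  k := 0
  pts := [[.ofNat (nat_lit 1), .ofNat (nat_lit 0), .ofNat (nat_lit 0), .ofNat (nat_lit 0)], [.negSucc (nat_lit 0), .ofNat (nat_lit 1), .ofNat (nat_lit 0), .ofNat (nat_lit 0)], [.ofNat (nat_lit 0), .negSucc (nat_lit 0), .ofNat (nat_lit 1), .ofNat (nat_lit 1)], [.ofNat (nat_lit 0), .ofNat (nat_lit 0), .negSucc (nat_lit 0), .ofNat (nat_lit 1)], [.ofNat (nat_lit 0), .ofNat (nat_lit 0), .ofNat (nat_lit 1), .negSucc (nat_lit 0)], [.ofNat (nat_lit 0), .ofNat (nat_lit 1), .negSucc (nat_lit 0), .negSucc (nat_lit 0)], [.ofNat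 (nat_lit 1), .negSucc (nat_lit 0), .ofNat (nat_lit 0), .ofNat (nat_lit 0)], [.negSucc (nat_lit 0), .ofNat (nat_lit 0), .ofNat (nat_lit 0), .ofNat (nat_lit 0)]]
  par := [(nat_lit 0, nat_lit 0), (nat_lit 1, nat_lit 1), (nat_lit 2, nat_lit 2), (nat_lit 2, nat_lit 3), (nat_lit 3, nat_lit 3), (nat_lit 5, nat_lit 1), (nat_lit 6, nat_lit 0)]
  succ := [[nat_lit 1, nat_lit 0, nat_lit 0, nat_lit 0], [nat_lit 0, nat_lit 1, nat_lit 2, nat_lit 1], [nat_lit 2, nat_lit 3, nat_lit 1, nat_lit 4], [nat_lit 3, nat_lit 2, nat_lit 3, nat_lit 5], [nat_lit 4, nat_lit 5, nat_lit 4, nat_lit 2], [nat_lit 5, nat_lit 4, nat_lit 6, nat_lit 3], [nat_lit 7, nat_lit 6, nat_lit 5, nat_lit 6], [nat_lit 6, nat_lit 7, nat_lit 7, nat_lit 7]]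
  deg := [nat_lit 0, nat_lit 1, nat_lit 2, nat_lit 3, nat_lit 3, nat_lit 4, nat_lit 5, nat_lit 6]

/-- Orbit level 1. -/
def d4Level1 : Level where
  k := 2
  pts := [[.ofNat (nat_lit 0), .ofNat (nat_lit 0), .ofNat (nat_lit 1), .ofNat (nat_lit 0)], [.ofNat (nat_lit 0), .ofNat (nat_lit 1), .negSucc (nat_lit 0), .ofNat (nat_lit 0)], [.ofNat (nat_lit 1), .negSucc (nat_lit 0), .ofNat (nat_lit 0), .ofNat (nat_lit 1)], [.ofNat (nat_lit 1), .ofNat (nat_lit 0), .ofNat (nat_lit 0), .negSucc (nat_lit 0)]]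
  par := [(nat_lit 0, nat_lit 2), (nat_lit 1, nat_lit 1), (nat_lit 2, nat_lit 3)]
  succ := [[nat_lit 1, nat_lit 0, nat_lit 0], [nat_lit 0, nat_lit 2, nat_lit 1], [nat_lit 2, nat_lit 1, nat_lit 3], [nat_lit 3, nat_lit 3, nat_lit 2]]
  deg := [nat_lit 0, nat_lit 1, nat_lit 2, nat_lit 3]

/-- Orbit level 2. -/
def d4Level2 : Level where
  k := 1
  pts := [[.ofNat (nat_lit 0), .ofNat (nat_lit 1), .ofNat (nat_lit 0), .ofNat (nat_lit 0)], [.ofNat (nat_lit 1), .negSucc (nat_lit 0), .ofNat (nat_lit 1), .ofNat (nat_lit 1)], [.ofNat (nat_lit 1), .ofNat (nat_lit 0), .ofNat (nat_lit 1), .negSucc (nat_lit 0)]]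
  par := [(nat_lit 0, nat_lit 1), (nat_lit 1, nat_lit 3)]
  succ := [[nat_lit 1, nat_lit 0], [nat_lit 0, nat_lit 2], [nat_lit 2, nat_lit 1]]
  deg := [nat_lit 0, nat_lit 1, nat_lit 2]

/-- Orbit level 3. -/
def d4Level3 : Level where
  k := 3
  pts := [[.ofNat (nat_lit 0), .ofNat (nat_lit 0), .ofNat (nat_lit 0), .ofNat (nat_lit 1)], [.ofNat (nat_lit 0), .ofNat (nat_lit 1), .ofNat (nat_lit 0), .negSucc (nat_lit 0)]]
  par := [(nat_lit 0, nat_lit 3)]
  succ := [[nat_lit 1], [nat_lit 0]]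
  deg := [nat_lit 0, nat_lit 1]

/-- The chain of orbits. -/
def d4Levels : List Level := [d4Level0, d4Level1, d4Level2, d4Level3]

/-- Coroot coordinates of the negative roots. -/
def d4Rows : List (List ℤ) := [[.negSucc (nat_lit 0), .negSucc (nat_lit 1), .negSucc (nat_lit 0), .negSucc (nat_lit 0)], [.negSucc (nat_lit 0), .negSucc (nat_lit 0), .negSucc (nat_lit 0), .negSucc (nat_lit 0)], [.negSucc (nat_lit 0), .negSucc (nat_lit 0), .negSucc (nat_lit 0), .ofNat (nat_lit 0)], [.negSucc (nat_lit 0), .negSucc (nat_lit 0), .ofNat (nat_lit 0), .negSucc (nat_lit 0)], [.negSucc (nat_lit 0), .negSucc (nat_lit 0), .ofNat (nat_lit 0), .ofNat (nat_lit 0)], [.negSucc (nat_lit 0), .ofNat (nat_lit 0), .ofNat (nat_lit 0), .ofNat (nat_lit 0)], [.ofNat (nat_lit 0), .negSucc (nat_lit 0), .negSucc (nat_lit 0), .negSucc (nat_lit 0)], [.ofNat (nat_lit 0), .negSucc (nat_lit 0), .negSucc (nat_lit 0), .ofNat (nat_lit 0)], [.ofNat (nat_lit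 0), .negSucc (nat_lit 0), .ofNat (nat_lit 0), .negSucc (nat_lit 0)], [.ofNat (nat_lit 0), .negSucc (nat_lit 0), .ofNat (nat_lit 0), .ofNat (nat_lit 0)], [.ofNat (nat_lit 0), .ofNat (nat_lit 0), .negSucc (nat_lit 0), .ofNat (nat_lit 0)], [.ofNat (nat_lit 0), .ofNat (nat_lit 0), .ofNat (nat_lit 0), .negSucc (nat_lit 0)]]

theorem d4_rows : chkRows chevD4 d4Cert d4Rows = true := by decide +kernel

theorem d4_chain : chkChain chevD4 d4Cert d4Rows d4Levels = true := by decide +kernel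

theorem d4_all : allBelow (fun i => (d4Levels.map Level.k).contains i) chevD4.rank = true := by
  decide +kernel

theorem d4_factor : chkFactor (d4Levels.map Level.deg) chevD4.rank [2, 4, 4, 6] = true := by
  decide +kernel

theorem d4_weyl_size : (d4Levels.map fun L => L.deg.length).prod = 192 := by
  decide +kernel

theorem d4_smith : chkSmith chevD4 d4Cert [[-1, 0, 0, 0], [-2, -1, 0, 0], [-3, -2, -1, 0], [2, 2, 1, 1]]
    [[-1, 0, 0, 0], [2, -1, 0, 0], [-1, 2, -1, 0], [-1, 0, 1, 1]]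
    [[0, 0, 0, 1], [1, 0, 0, 2], [0, 1, -1, 1], [0, 0, 1, 2]]
    [[-2, 1, 0, 0], [-3, 0, 1, 1], [-2, 0, 0, 1], [1, 0, 0, 0]] [1, 1, 2, 2] = true := by
  decide +kernel

/-- Orders of the products of two fundamental reflections. -/
def d4Cox : List (List ℕ) := [[1, 3, 2, 2], [3, 1, 3, 3], [2, 3, 1, 2], [2, 3, 2, 1]]

theorem d4_cox : chkCox chevD4 d4Cert (fun i j => (d4Cox.getD i []).getD j 0) = true := by
  decide +kernel

theorem d4_coxeterElement : chkOrd chevD4 d4Cert (List.range chevD4.rank) 6 = true := by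
  decide +kernel

end Cfsg.Agent.Chev
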