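import Cfsg.Agent.Chev.Poly
import Cfsg.Agent.Chev.TorusCard
import Cfsg.Agent.Chev.WeylOrders
import Cfsg.Agent.Chev.Check.E6

/-! Orbit, Cartan and Coxeter certificates of `chevE6`; computed from the frozen tables and checked by the kernel. -/

set_option autoImplicit false
set_option maxRecDepth 100000

namespace Cfsg.Agent.Chev

open Cfsg.Lie

/-- Orbit level 0. -/
def e6Level0 : Level where
  k := 0
  pts := [[.ofNat (nat_lit 1), .ofNat (nat_lit 0), .ofNat (nat_lit 0), .ofNat (nat_lit 0), .ofNat (nat_lit 0), .ofNat (nat_lit 0)], [.negSucc (nat_lit 0), .ofNat (nat_lit 0), .ofNat (nat_lit 1), .ofNat (nat_lit 0), .ofNat (nat_lit 0), .ofNat (nat_lit 0)], [.ofNat (nat_lit 0), .ofNat (nat_lit 0), .negSucc (nat_lit 0), .ofNat (nat_lit 1), .ofNat (nat_lit 0), .ofNat (nat_lit 0)], [.ofNat (nat_lit 0), .ofNat (nat_lit 1), .ofNat (nat_lit 0), .negSucc (nat_lit 0), .ofNat (nat_lit 1),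 .ofNat (nat_lit 0)], [.ofNat (nat_lit 0), .negSucc (nat_lit 0), .ofNat (nat_lit 0), .ofNat (nat_lit 0), .ofNat (nat_lit 1), .ofNat (nat_lit 0)], [.ofNat (nat_lit 0), .ofNat (nat_lit 1), .ofNat (nat_lit 0), .ofNat (nat_lit 0), .negSucc (nat_lit 0), .ofNat (nat_lit 1)], [.ofNat (nat_lit 0), .negSucc (nat_lit 0), .ofNat (nat_lit 0), .ofNat (nat_lit 1), .negSucc (nat_lit 0), .ofNat (nat_lit 1)], [.ofNat (nat_lit 0), .ofNat (nat_lit 1), .ofNat (nat_lit 0), .ofNat (nat_lit 0), .ofNat (nat_lit 0), .negSucc (nat_lit 0)], [.ofNat (nat_lit 0), .negSucc (nat_lit 0), .ofNat (nat_lit 0), .ofNat (nat_lit 1), .ofNat (nat_lit 0), .negSucc (nat_lit 0)], [.ofNat (nat_lit 0), .ofNat (nat_lit 0), .ofNat (nat_lit 1), .negSucc (nat_lit 0), .ofNat (nat_lit 0), .ofNat (nat_lit 1)], [.ofNat (nat_lit 0), .ofNat (nat_lit 0), .ofNat (nat_lit 1), .negSucc (nat_lit 0), .ofNat (nat_lit 1), .negSucc (nat_lit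 0)], [.ofNat (nat_lit 1), .ofNat (nat_lit 0), .negSucc (nat_lit 0), .ofNat (nat_lit 0), .ofNat (nat_lit 0), .ofNat (nat_lit 1)], [.ofNat (nat_lit 1), .ofNat (nat_lit 0), .negSucc (nat_lit 0), .ofNat (nat_lit 0), .ofNat (nat_lit 1), .negSucc (nat_lit 0)], [.ofNat (nat_lit 0), .ofNat (nat_lit 0), .ofNat (nat_lit 1), .ofNat (nat_lit 0), .negSucc (nat_lit 0), .ofNat (nat_lit 0)], [.negSucc (nat_lit 0), .ofNat (nat_lit 0), .ofNat (nat_lit 0), .ofNat (nat_lit 0), .ofNat (nat_lit 0), .ofNat (nat_lit 1)], [.negSucc (nat_lit 0), .ofNat (nat_lit 0), .ofNat (nat_lit 0), .ofNat (nat_lit 0), .ofNat (nat_lit 1), .negSucc (nat_lit 0)], [.ofNat (nat_lit 1), .ofNat (nat_lit 0), .negSucc (nat_lit 0), .ofNat (nat_lit 1), .negSucc (nat_lit 0), .ofNat (nat_lit 0)], [.negSucc (nat_lit 0), .ofNat (nat_lit 0), .ofNat (nat_lit 0), .ofNat (nat_lit 1), .negSucc (nat_lit 0), .ofNat (nat_lit 0)], [.ofNat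 (nat_lit 1), .ofNat (nat_lit 1), .ofNat (nat_lit 0), .negSucc (nat_lit 0), .ofNat (nat_lit 0), .ofNat (nat_lit 0)], [.negSucc (nat_lit 0), .ofNat (nat_lit 1), .ofNat (nat_lit 1), .negSucc (nat_lit 0), .ofNat (nat_lit 0), .ofNat (nat_lit 0)], [.ofNat (nat_lit 1), .negSucc (nat_lit 0), .ofNat (nat_lit 0), .ofNat (nat_lit 0), .ofNat (nat_lit 0), .ofNat (nat_lit 0)], [.negSucc (nat_lit 0), .negSucc (nat_lit 0), .ofNat (nat_lit 1), .ofNat (nat_lit 0), .ofNat (nat_lit 0), .ofNat (nat_lit 0)], [.ofNat (nat_lit 0), .ofNat (nat_lit 1), .negSucc (nat_lit 0), .ofNat (nat_lit 0), .ofNat (nat_lit 0), .ofNat (nat_lit 0)], [.ofNat (nat_lit 0), .negSucc (nat_lit 0), .negSucc (nat_lit 0), .ofNat (nat_lit 1), .ofNat (nat_lit 0), .ofNat (nat_lit 0)], [.ofNat (nat_lit 0), .ofNat (nat_lit 0), .ofNat (nat_lit 0), .negSucc (nat_lit 0), .ofNat (nat_lit 1), .ofNat (nat_lit 0)], [.ofNat (nat_lit 0),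 .ofNat (nat_lit 0), .ofNat (nat_lit 0), .ofNat (nat_lit 0), .negSucc (nat_lit 0), .ofNat (nat_lit 1)], [.ofNat (nat_lit 0), .ofNat (nat_lit 0), .ofNat (nat_lit 0), .ofNat (nat_lit 0), .ofNat (nat_lit 0), .negSucc (nat_lit 0)]]
  par := [(nat_lit 0, nat_lit 0), (nat_lit 1, nat_lit 2), (nat_lit 2, nat_lit 3), (nat_lit 3, nat_lit 1), (nat_lit 3, nat_lit 4), (nat_lit 4, nat_lit 4), (nat_lit 5, nat_lit 5), (nat_lit 6, nat_lit 5), (nat_lit 6, nat_lit 3), (nat_lit 8, nat_lit 3), (nat_lit 9, nat_lit 2), (nat_lit 10, nat_lit 2), (nat_lit 10, nat_lit 4), (nat_lit 11, nat_lit 0), (nat_lit 12, nat_lit 0), (nat_lit 12, nat_lit 4), (nat_lit 15, nat_lit 4), (nat_lit 16, nat_lit 3), (nat_lit 17, nat_lit 3), (nat_lit 18, nat_lit 1), (nat_lit 19, nat_lit 1), (nat_lit 19, nat_lit 2), (nat_lit 21, nat_lit 2), (nat_lit 23, nat_lit 3), (nat_lit 24, nat_lit 4), (nat_lit 25, nat_lit 5)]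
  succ := [[nat_lit 1, nat_lit 0, nat_lit 0, nat_lit 0, nat_lit 0, nat_lit 0], [nat_lit 0, nat_lit 1, nat_lit 1, nat_lit 2, nat_lit 1, nat_lit 1], [nat_lit 2, nat_lit 2, nat_lit 2, nat_lit 1, nat_lit 3, nat_lit 2], [nat_lit 3, nat_lit 3, nat_lit 4, nat_lit 3, nat_lit 2, nat_lit 5], [nat_lit 4, nat_lit 4, nat_lit 3, nat_lit 4, nat_lit 4, nat_lit 6], [nat_lit 5, nat_lit 7, nat_lit 6, nat_lit 5, nat_lit 5, nat_lit 3], [nat_lit 6, nat_lit 8, nat_lit 5, nat_lit 6, nat_lit 9, nat_lit 4], [nat_lit 7, nat_lit 5, nat_lit 8, nat_lit 7, nat_lit 7, nat_lit 7], [nat_lit 8, nat_lit 6, nat_lit 7, nat_lit 8, nat_lit 10, nat_lit 8], [nat_lit 9, nat_lit 10, nat_lit 9, nat_lit 11, nat_lit 6, nat_lit 9], [nat_lit 10, nat_lit 9, nat_lit 10, nat_lit 12, nat_lit 8, nat_lit 13], [nat_lit 14, nat_lit 12, nat_lit 11, nat_lit 9, nat_lit 11, nat_lit 11], [nat_lit 15, nat_lit 11, nat_lit 12, nat_lit 10,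 nat_lit 12, nat_lit 16], [nat_lit 13, nat_lit 13, nat_lit 13, nat_lit 16, nat_lit 13, nat_lit 10], [nat_lit 11, nat_lit 15, nat_lit 14, nat_lit 14, nat_lit 14, nat_lit 14], [nat_lit 12, nat_lit 14, nat_lit 15, nat_lit 15, nat_lit 15, nat_lit 17], [nat_lit 17, nat_lit 16, nat_lit 16, nat_lit 13, nat_lit 18, nat_lit 12], [nat_lit 16, nat_lit 17, nat_lit 17, nat_lit 17, nat_lit 19, nat_lit 15], [nat_lit 19, nat_lit 18, nat_lit 20, nat_lit 18, nat_lit 16, nat_lit 18], [nat_lit 18, nat_lit 19, nat_lit 21, nat_lit 22, nat_lit 17, nat_lit 19], [nat_lit 21, nat_lit 20, nat_lit 18, nat_lit 20, nat_lit 20, nat_lit 20], [nat_lit 20, nat_lit 21, nat_lit 19, nat_lit 23, nat_lit 21, nat_lit 21], [nat_lit 22, nat_lit 22, nat_lit 23, nat_lit 19, nat_lit 22, nat_lit 22], [nat_lit 23, nat_lit 23, nat_lit 22, nat_lit 21, nat_lit 24, nat_lit 23], [nat_lit 24, nat_lit 24, nat_lit 24, nat_lit 24,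 nat_lit 23, nat_lit 25], [nat_lit 25, nat_lit 26, nat_lit 25, nat_lit 25, nat_lit 25, nat_lit 24], [nat_lit 26, nat_lit 25, nat_lit 26, nat_lit 26, nat_lit 26, nat_lit 26]]
  deg := [nat_lit 0, nat_lit 1, nat_lit 2, nat_lit 3, nat_lit 4, nat_lit 4, nat_lit 5, nat_lit 5, nat_lit 6, nat_lit 6, nat_lit 7, nat_lit 7, nat_lit 8, nat_lit 8, nat_lit 8, nat_lit 9, nat_lit 9, nat_lit 10, nat_lit 10, nat_lit 11, nat_lit 11, nat_lit 12, nat_lit 12, nat_lit 13, nat_lit 14, nat_lit 15, nat_lit 16]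

/-- Orbit level 1. -/
def e6Level1 : Level where
  k := 5
  pts := [[.ofNat (nat_lit 0), .ofNat (nat_lit 0), .ofNat (nat_lit 0), .ofNat (nat_lit 0), .ofNat (nat_lit 0), .ofNat (nat_lit 1)], [.ofNat (nat_lit 0), .ofNat (nat_lit 0), .ofNat (nat_lit 0), .ofNat (nat_lit 0), .ofNat (nat_lit 1), .negSucc (nat_lit 0)], [.ofNat (nat_lit 0), .ofNat (nat_lit 0), .ofNat (nat_lit 0), .ofNat (nat_lit 1), .negSucc (nat_lit 0), .ofNat (nat_lit 0)], [.ofNat (nat_lit 0), .ofNat (nat_lit 1), .ofNat (nat_lit 1), .negSucc (nat_lit 0), .ofNat (nat_lit 0), .ofNat (nat_lit 0)], [.ofNat (nat_lit 0), .negSucc (nat_lit 0), .ofNat (nat_lit 1), .ofNat (nat_lit 0), .ofNat (nat_lit 0), .ofNat (nat_lit 0)], [.ofNat (nat_lit 1), .ofNat (nat_lit 1), .negSucc (nat_lit 0), .ofNat (nat_lit 0), .ofNat (nat_lit 0), .ofNat (nat_lit 0)], [.ofNat (nat_lit 1), .negSucc (nat_lit 0), .negSucc (nat_lit 0), .ofNat (nat_lit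 1), .ofNat (nat_lit 0), .ofNat (nat_lit 0)], [.ofNat (nat_lit 1), .ofNat (nat_lit 0), .ofNat (nat_lit 0), .negSucc (nat_lit 0), .ofNat (nat_lit 1), .ofNat (nat_lit 0)], [.ofNat (nat_lit 1), .ofNat (nat_lit 0), .ofNat (nat_lit 0), .ofNat (nat_lit 0), .negSucc (nat_lit 0), .ofNat (nat_lit 1)], [.ofNat (nat_lit 1), .ofNat (nat_lit 0), .ofNat (nat_lit 0), .ofNat (nat_lit 0), .ofNat (nat_lit 0), .negSucc (nat_lit 0)]]
  par := [(nat_lit 0, nat_lit 5), (nat_lit 1, nat_lit 4), (nat_lit 2, nat_lit 3), (nat_lit 3, nat_lit 1), (nat_lit 3, nat_lit 2), (nat_lit 4, nat_lit 2), (nat_lit 6, nat_lit 3), (nat_lit 7, nat_lit 4), (nat_lit 8, nat_lit 5)]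
  succ := [[nat_lit 1, nat_lit 0, nat_lit 0, nat_lit 0, nat_lit 0], [nat_lit 0, nat_lit 1, nat_lit 1, nat_lit 1, nat_lit 2], [nat_lit 2, nat_lit 2, nat_lit 2, nat_lit 3, nat_lit 1], [nat_lit 3, nat_lit 4, nat_lit 5, nat_lit 2, nat_lit 3], [nat_lit 4, nat_lit 3, nat_lit 6, nat_lit 4, nat_lit 4], [nat_lit 5, nat_lit 6, nat_lit 3, nat_lit 5, nat_lit 5], [nat_lit 6, nat_lit 5, nat_lit 4, nat_lit 7, nat_lit 6], [nat_lit 7, nat_lit 7, nat_lit 7, nat_lit 6, nat_lit 8], [nat_lit 9, nat_lit 8, nat_lit 8, nat_lit 8, nat_lit 7], [nat_lit 8, nat_lit 9, nat_lit 9, nat_lit 9, nat_lit 9]]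
  deg := [nat_lit 0, nat_lit 1, nat_lit 2, nat_lit 3, nat_lit 4, nat_lit 4, nat_lit 5, nat_lit 6, nat_lit 7, nat_lit 8]

/-- Orbit level 2. -/
def e6Level2 : Level where
  k := 1
  pts := [[.ofNat (nat_lit 0), .ofNat (nat_lit 1), .ofNat (nat_lit 0), .ofNat (nat_lit 0), .ofNat (nat_lit 0), .ofNat (nat_lit 0)], [.ofNat (nat_lit 0), .negSucc (nat_lit 0), .ofNat (nat_lit 0), .ofNat (nat_lit 1), .ofNat (nat_lit 0), .ofNat (nat_lit 0)], [.ofNat (nat_lit 0), .ofNat (nat_lit 0), .ofNat (nat_lit 1), .negSucc (nat_lit 0), .ofNat (nat_lit 1), .ofNat (nat_lit 0)], [.ofNat (nat_lit 1), .ofNat (nat_lit 0), .negSucc (nat_lit 0), .ofNat (nat_lit 0), .ofNat (nat_lit 1), .ofNat (nat_lit 0)], [.ofNat (nat_lit 0), .ofNat (nat_lit 0), .ofNat (nat_lit 1), .ofNat (nat_lit 0), .negSucc (nat_lit 0), .ofNat (nat_lit 1)], [.ofNat (nat_lit 1), .ofNat (nat_lit 0), .negSucc (nat_lit 0), .ofNat (nat_lit 1),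 .negSucc (nat_lit 0), .ofNat (nat_lit 1)], [.ofNat (nat_lit 1), .ofNat (nat_lit 1), .ofNat (nat_lit 0), .negSucc (nat_lit 0), .ofNat (nat_lit 0), .ofNat (nat_lit 1)], [.ofNat (nat_lit 1), .negSucc (nat_lit 0), .ofNat (nat_lit 0), .ofNat (nat_lit 0), .ofNat (nat_lit 0), .ofNat (nat_lit 1)]]
  par := [(nat_lit 0, nat_lit 1), (nat_lit 1, nat_lit 3), (nat_lit 2, nat_lit 2), (nat_lit 2, nat_lit 4), (nat_lit 3, nat_lit 4), (nat_lit 5, nat_lit 3), (nat_lit 6, nat_lit 1)]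
  succ := [[nat_lit 1, nat_lit 0, nat_lit 0, nat_lit 0], [nat_lit 0, nat_lit 1, nat_lit 2, nat_lit 1], [nat_lit 2, nat_lit 3, nat_lit 1, nat_lit 4], [nat_lit 3, nat_lit 2, nat_lit 3, nat_lit 5], [nat_lit 4, nat_lit 5, nat_lit 4, nat_lit 2], [nat_lit 5, nat_lit 4, nat_lit 6, nat_lit 3], [nat_lit 7, nat_lit 6, nat_lit 5, nat_lit 6], [nat_lit 6, nat_lit 7, nat_lit 7, nat_lit 7]]
  deg := [nat_lit 0, nat_lit 1, nat_lit 2, nat_lit 3, nat_lit 3, nat_lit 4, nat_lit 5, nat_lit 6]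

/-- Orbit level 3. -/
def e6Level3 : Level where
  k := 2
  pts := [[.ofNat (nat_lit 0), .ofNat (nat_lit 0), .ofNat (nat_lit 1), .ofNat (nat_lit 0), .ofNat (nat_lit 0), .ofNat (nat_lit 0)], [.ofNat (nat_lit 1), .ofNat (nat_lit 0), .negSucc (nat_lit 0), .ofNat (nat_lit 1), .ofNat (nat_lit 0), .ofNat (nat_lit 0)], [.ofNat (nat_lit 1), .ofNat (nat_lit 1), .ofNat (nat_lit 0), .negSucc (nat_lit 0), .ofNat (nat_lit 1), .ofNat (nat_lit 0)], [.ofNat (nat_lit 1), .ofNat (nat_lit 1), .ofNat (nat_lit 0), .ofNat (nat_lit 0), .negSucc (nat_lit 0), .ofNat (nat_lit 1)]]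
  par := [(nat_lit 0, nat_lit 2), (nat_lit 1, nat_lit 3), (nat_lit 2, nat_lit 4)]
  succ := [[nat_lit 1, nat_lit 0, nat_lit 0], [nat_lit 0, nat_lit 2, nat_lit 1], [nat_lit 2, nat_lit 1, nat_lit 3], [nat_lit 3, nat_lit 3, nat_lit 2]]
  deg := [nat_lit 0, nat_lit 1, nat_lit 2, nat_lit 3]

/-- Orbit level 4. -/
def e6Level4 : Level where
  k := 3
  pts := [[.ofNat (nat_lit 0), .ofNat (nat_lit 0), .ofNat (nat_lit 0), .ofNat (nat_lit 1), .ofNat (nat_lit 0), .ofNat (nat_lit 0)], [.ofNat (nat_lit 0), .ofNat (nat_lit 1), .ofNat (nat_lit 1), .negSucc (nat_lit 0), .ofNat (nat_lit 1), .ofNat (nat_lit 0)], [.ofNat (nat_lit 0), .ofNat (nat_lit 1), .ofNat (nat_lit 1), .ofNat (nat_lit 0), .negSucc (nat_lit 0), .ofNat (nat_lit 1)]]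
  par := [(nat_lit 0, nat_lit 3), (nat_lit 1, nat_lit 4)]
  succ := [[nat_lit 1, nat_lit 0], [nat_lit 0, nat_lit 2], [nat_lit 2, nat_lit 1]]
  deg := [nat_lit 0, nat_lit 1, nat_lit 2]

/-- Orbit level 5. -/
def e6Level5 : Level where
  k := 4
  pts := [[.ofNat (nat_lit 0), .ofNat (nat_lit 0), .ofNat (nat_lit 0), .ofNat (nat_lit 0), .ofNat (nat_lit 1), .ofNat (nat_lit 0)], [.ofNat (nat_lit 0), .ofNat (nat_lit 0), .ofNat (nat_lit 0), .ofNat (nat_lit 1), .negSucc (nat_lit 0), .ofNat (nat_lit 1)]]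
  par := [(nat_lit 0, nat_lit 4)]
  succ := [[nat_lit 1], [nat_lit 0]]
  deg := [nat_lit 0, nat_lit 1]

/-- The chain of orbits. -/
def e6Levels : List Level := [e6Level0, e6Level1, e6Level2, e6Level3, e6Level4, e6Level5]

/-- Coroot coordinates of the negative roots. -/
def e6Rows : List (List ℤ) := [[.negSucc (nat_lit 0), .negSucc (nat_lit 1), .negSucc (nat_lit 1), .negSucc (nat_lit 2), .negSucc (nat_lit 1), .negSucc (nat_lit 0)], [.negSucc (nat_lit 0), .negSucc (nat_lit 0), .negSucc (nat_lit 1), .negSucc (nat_lit 2), .negSucc (nat_lit 1), .negSucc (nat_lit 0)], [.negSucc (nat_lit 0), .negSucc (nat_lit 0), .negSucc (nat_lit 1), .negSucc (nat_lit 1), .negSucc (nat_lit 1), .negSucc (nat_lit 0)], [.negSucc (nat_lit 0), .negSucc (nat_lit 0), .negSucc (nat_lit 1), .negSucc (nat_lit 1), .negSucc (nat_lit 0), .negSucc (nat_lit 0)], [.negSucc (nat_lit 0), .negSucc (nat_lit 0), .negSucc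 (nat_lit 1), .negSucc (nat_lit 1), .negSucc (nat_lit 0), .ofNat (nat_lit 0)], [.negSucc (nat_lit 0), .negSucc (nat_lit 0), .negSucc (nat_lit 0), .negSucc (nat_lit 1), .negSucc (nat_lit 1), .negSucc (nat_lit 0)], [.negSucc (nat_lit 0), .negSucc (nat_lit 0), .negSucc (nat_lit 0), .negSucc (nat_lit 1), .negSucc (nat_lit 0), .negSucc (nat_lit 0)], [.negSucc (nat_lit 0), .negSucc (nat_lit 0), .negSucc (nat_lit 0), .negSucc (nat_lit 1), .negSucc (nat_lit 0), .ofNat (nat_lit 0)], [.negSucc (nat_lit 0), .negSucc (nat_lit 0), .negSucc (nat_lit 0), .negSucc (nat_lit 0), .negSucc (nat_lit 0), .negSucc (nat_lit 0)], [.negSucc (nat_lit 0), .negSucc (nat_lit 0), .negSucc (nat_lit 0), .negSucc (nat_lit 0), .negSucc (nat_lit 0), .ofNat (nat_lit 0)], [.negSucc (nat_lit 0), .negSucc (nat_lit 0), .negSucc (nat_lit 0), .negSucc (nat_lit 0), .ofNat (nat_lit 0), .ofNat (nat_lit 0)], [.negSucc (nat_lit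 0), .ofNat (nat_lit 0), .negSucc (nat_lit 0), .negSucc (nat_lit 0), .negSucc (nat_lit 0), .negSucc (nat_lit 0)], [.negSucc (nat_lit 0), .ofNat (nat_lit 0), .negSucc (nat_lit 0), .negSucc (nat_lit 0), .negSucc (nat_lit 0), .ofNat (nat_lit 0)], [.negSucc (nat_lit 0), .ofNat (nat_lit 0), .negSucc (nat_lit 0), .negSucc (nat_lit 0), .ofNat (nat_lit 0), .ofNat (nat_lit 0)], [.negSucc (nat_lit 0), .ofNat (nat_lit 0), .negSucc (nat_lit 0), .ofNat (nat_lit 0), .ofNat (nat_lit 0), .ofNat (nat_lit 0)], [.negSucc (nat_lit 0), .ofNat (nat_lit 0), .ofNat (nat_lit 0), .ofNat (nat_lit 0), .ofNat (nat_lit 0), .ofNat (nat_lit 0)], [.ofNat (nat_lit 0), .negSucc (nat_lit 0), .negSucc (nat_lit 0), .negSucc (nat_lit 1), .negSucc (nat_lit 1), .negSucc (nat_lit 0)], [.ofNat (nat_lit 0), .negSucc (nat_lit 0), .negSucc (nat_lit 0), .negSucc (nat_lit 1), .negSucc (nat_lit 0), .negSucc (nat_lit 0)], [.ofNat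 (nat_lit 0), .negSucc (nat_lit 0), .negSucc (nat_lit 0), .negSucc (nat_lit 1), .negSucc (nat_lit 0), .ofNat (nat_lit 0)], [.ofNat (nat_lit 0), .negSucc (nat_lit 0), .negSucc (nat_lit 0), .negSucc (nat_lit 0), .negSucc (nat_lit 0), .negSucc (nat_lit 0)], [.ofNat (nat_lit 0), .negSucc (nat_lit 0), .negSucc (nat_lit 0), .negSucc (nat_lit 0), .negSucc (nat_lit 0), .ofNat (nat_lit 0)], [.ofNat (nat_lit 0), .negSucc (nat_lit 0), .negSucc (nat_lit 0), .negSucc (nat_lit 0), .ofNat (nat_lit 0), .ofNat (nat_lit 0)], [.ofNat (nat_lit 0), .negSucc (nat_lit 0), .ofNat (nat_lit 0), .negSucc (nat_lit 0), .negSucc (nat_lit 0), .negSucc (nat_lit 0)], [.ofNat (nat_lit 0), .negSucc (nat_lit 0), .ofNat (nat_lit 0), .negSucc (nat_lit 0), .negSucc (nat_lit 0), .ofNat (nat_lit 0)], [.ofNat (nat_lit 0), .negSucc (nat_lit 0), .ofNat (nat_lit 0), .negSucc (nat_lit 0), .ofNat (nat_lit 0), .ofNat (nat_lit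 0)], [.ofNat (nat_lit 0), .negSucc (nat_lit 0), .ofNat (nat_lit 0), .ofNat (nat_lit 0), .ofNat (nat_lit 0), .ofNat (nat_lit 0)], [.ofNat (nat_lit 0), .ofNat (nat_lit 0), .negSucc (nat_lit 0), .negSucc (nat_lit 0), .negSucc (nat_lit 0), .negSucc (nat_lit 0)], [.ofNat (nat_lit 0), .ofNat (nat_lit 0), .negSucc (nat_lit 0), .negSucc (nat_lit 0), .negSucc (nat_lit 0), .ofNat (nat_lit 0)], [.ofNat (nat_lit 0), .ofNat (nat_lit 0), .negSucc (nat_lit 0), .negSucc (nat_lit 0), .ofNat (nat_lit 0), .ofNat (nat_lit 0)], [.ofNat (nat_lit 0), .ofNat (nat_lit 0), .negSucc (nat_lit 0), .ofNat (nat_lit 0), .ofNat (nat_lit 0), .ofNat (nat_lit 0)], [.ofNat (nat_lit 0), .ofNat (nat_lit 0), .ofNat (nat_lit 0), .negSucc (nat_lit 0), .negSucc (nat_lit 0), .negSucc (nat_lit 0)], [.ofNat (nat_lit 0), .ofNat (nat_lit 0), .ofNat (nat_lit 0), .negSucc (nat_lit 0), .negSucc (nat_lit 0), .ofNat (nat_lit 0)],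 [.ofNat (nat_lit 0), .ofNat (nat_lit 0), .ofNat (nat_lit 0), .negSucc (nat_lit 0), .ofNat (nat_lit 0), .ofNat (nat_lit 0)], [.ofNat (nat_lit 0), .ofNat (nat_lit 0), .ofNat (nat_lit 0), .ofNat (nat_lit 0), .negSucc (nat_lit 0), .negSucc (nat_lit 0)], [.ofNat (nat_lit 0), .ofNat (nat_lit 0), .ofNat (nat_lit 0), .ofNat (nat_lit 0), .negSucc (nat_lit 0), .ofNat (nat_lit 0)], [.ofNat (nat_lit 0), .ofNat (nat_lit 0), .ofNat (nat_lit 0), .ofNat (nat_lit 0), .ofNat (nat_lit 0), .negSucc (nat_lit 0)]]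

theorem e6_rows : chkRows chevE6 e6Cert e6Rows = true := by decide +kernel

theorem e6_chain : chkChain chevE6 e6Cert e6Rows e6Levels = true := by decide +kernel

theorem e6_all : allBelow (fun i => (e6Levels.map Level.k).contains i) chevE6.rank = true := by
  decide +kernel

theorem e6_factor : chkFactor (e6Levels.map Level.deg) chevE6.rank [2, 5, 6, 8, 9, 12] = true := by
  decide +kernel

theorem e6_weyl_size : (e6Levels.map fun L => L.deg.length).prod = 51840 := by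
  decide +kernel

theorem e6_smith : chkSmith chevE6 e6Cert [[-1, 0, 0, 0, 0, 0], [0, -1, 0, 0, 0, 0], [1, -2, 0, -1, 0, 0], [2, -3, 0, -2, -1, 0], [-2, 1, -1, 0, 0, 0], [-5, 0, -4, -3, -2, -1]]
    [[-1, 0, 0, 0, 0, 0], [0, -1, 0, 0, 0, 0], [2, -1, 0, 0, -1, 0], [-1, 2, -1, 0, 0, 0], [0, -1, 2, -1, 0, 0], [0, 0, -1, 2, 4, -1]]
    [[0, 0, 0, 0, 1, -2], [0, 0, 0, 0, 2, -3], [1, 0, 0, 0, 2, -4], [0, 1, 0, 0, 4, -6], [0, 0, 1, 0, 4, -5], [0, 0, 0, 1, 4, -4]]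
    [[-2, 0, 1, 0, 0, 0], [0, -2, 0, 1, 0, 0], [2, -3, 0, 0, 1, 0], [4, -4, 0, 0, 0, 1], [-3, 2, 0, 0, 0, 0], [-2, 1, 0, 0, 0, 0]] [1, 1, 1, 1, 1, 3] = true := by
  decide +kernel

/-- Orders of the products of two fundamental reflections. -/
def e6Cox : List (List ℕ) := [[1, 2, 3, 2, 2, 2], [2, 1, 2, 3, 2, 2], [3, 2, 1, 3, 2, 2], [2, 3, 3, 1, 3, 2], [2, 2, 2, 3, 1, 3], [2, 2, 2, 2, 3, 1]]

theorem e6_cox : chkCox chevE6 e6Cert (fun i j => (e6Cox.getD i []).getD j 0) = true := by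
  decide +kernel

theorem e6_coxeterElement : chkOrd chevE6 e6Cert (List.range chevE6.rank) 12 = true := by
  decide +kernel

end Cfsg.Agent.Chev
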