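import Cfsg.Agent.Chev.Poly
import Cfsg.Agent.Chev.TorusCard
import Cfsg.Agent.Chev.WeylOrders
import Cfsg.Agent.Chev.Check.E8

/-! Orbit, Cartan and Coxeter certificates of `chevE8`; computed from the frozen tables and checked by the kernel. -/

set_option autoImplicit false
set_option maxRecDepth 100000

namespace Cfsg.Agent.Chev

open Cfsg.Lie

/-- Orbit level 0. -/
def e8Level0 : Level where
  k := 7
  pts := [[.ofNat (nat_lit 0), .ofNat (nat_lit 0), .ofNat (nat_lit 0), .ofNat (nat_lit 0), .ofNat (nat_lit 0), .ofNat (nat_lit 0), .ofNat (nat_lit 0), .ofNat (nat_lit 1)], [.ofNat (nat_lit 0), .ofNat (nat_lit 0), .ofNat (nat_lit 0), .ofNat (nat_lit 0), .ofNat (nat_lit 0), .ofNat (nat_lit 0), .ofNat (nat_lit 1), .negSucc (nat_lit 0)], [.ofNat (nat_lit 0), .ofNat (nat_lit 0), .ofNat (nat_lit 0), .ofNat (nat_lit 0), .ofNat (nat_lit 0), .ofNat (nat_lit 1), .negSucc (nat_lit 0), .ofNat (nat_lit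 0)], [.ofNat (nat_lit 0), .ofNat (nat_lit 0), .ofNat (nat_lit 0), .ofNat (nat_lit 0), .ofNat (nat_lit 1), .negSucc (nat_lit 0), .ofNat (nat_lit 0), .ofNat (nat_lit 0)], [.ofNat (nat_lit 0), .ofNat (nat_lit 0), .ofNat (nat_lit 0), .ofNat (nat_lit 1), .negSucc (nat_lit 0), .ofNat (nat_lit 0), .ofNat (nat_lit 0), .ofNat (nat_lit 0)], [.ofNat (nat_lit 0), .ofNat (nat_lit 1), .ofNat (nat_lit 1), .negSucc (nat_lit 0), .ofNat (nat_lit 0), .ofNat (nat_lit 0), .ofNat (nat_lit 0), .ofNat (nat_lit 0)], [.ofNat (nat_lit 0), .negSucc (nat_lit 0), .ofNat (nat_lit 1), .ofNat (nat_lit 0), .ofNat (nat_lit 0), .ofNat (nat_lit 0), .ofNat (nat_lit 0), .ofNat (nat_lit 0)], [.ofNat (nat_lit 1), .ofNat (nat_lit 1), .negSucc (nat_lit 0), .ofNat (nat_lit 0), .ofNat (nat_lit 0), .ofNat (nat_lit 0), .ofNat (nat_lit 0), .ofNat (nat_lit 0)], [.ofNat (nat_lit 1), .negSucc (nat_lit 0), .negSucc (nat_lit 0), .ofNat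 (nat_lit 1), .ofNat (nat_lit 0), .ofNat (nat_lit 0), .ofNat (nat_lit 0), .ofNat (nat_lit 0)], [.negSucc (nat_lit 0), .ofNat (nat_lit 1), .ofNat (nat_lit 0), .ofNat (nat_lit 0), .ofNat (nat_lit 0), .ofNat (nat_lit 0), .ofNat (nat_lit 0), .ofNat (nat_lit 0)], [.negSucc (nat_lit 0), .negSucc (nat_lit 0), .ofNat (nat_lit 0), .ofNat (nat_lit 1), .ofNat (nat_lit 0), .ofNat (nat_lit 0), .ofNat (nat_lit 0), .ofNat (nat_lit 0)], [.ofNat (nat_lit 1), .ofNat (nat_lit 0), .ofNat (nat_lit 0), .negSucc (nat_lit 0), .ofNat (nat_lit 1), .ofNat (nat_lit 0), .ofNat (nat_lit 0), .ofNat (nat_lit 0)], [.negSucc (nat_lit 0), .ofNat (nat_lit 0), .ofNat (nat_lit 1), .negSucc (nat_lit 0), .ofNat (nat_lit 1), .ofNat (nat_lit 0), .ofNat (nat_lit 0), .ofNat (nat_lit 0)], [.ofNat (nat_lit 1), .ofNat (nat_lit 0), .ofNat (nat_lit 0), .ofNat (nat_lit 0), .negSucc (nat_lit 0), .ofNat (nat_lit 1), .ofNat (nat_lit 0),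 .ofNat (nat_lit 0)], [.ofNat (nat_lit 0), .ofNat (nat_lit 0), .negSucc (nat_lit 0), .ofNat (nat_lit 0), .ofNat (nat_lit 1), .ofNat (nat_lit 0), .ofNat (nat_lit 0), .ofNat (nat_lit 0)], [.negSucc (nat_lit 0), .ofNat (nat_lit 0), .ofNat (nat_lit 1), .ofNat (nat_lit 0), .negSucc (nat_lit 0), .ofNat (nat_lit 1), .ofNat (nat_lit 0), .ofNat (nat_lit 0)], [.ofNat (nat_lit 1), .ofNat (nat_lit 0), .ofNat (nat_lit 0), .ofNat (nat_lit 0), .ofNat (nat_lit 0), .negSucc (nat_lit 0), .ofNat (nat_lit 1), .ofNat (nat_lit 0)], [.ofNat (nat_lit 0), .ofNat (nat_lit 0), .negSucc (nat_lit 0), .ofNat (nat_lit 1), .negSucc (nat_lit 0), .ofNat (nat_lit 1), .ofNat (nat_lit 0), .ofNat (nat_lit 0)], [.negSucc (nat_lit 0), .ofNat (nat_lit 0), .ofNat (nat_lit 1), .ofNat (nat_lit 0), .ofNat (nat_lit 0), .negSucc (nat_lit 0), .ofNat (nat_lit 1), .ofNat (nat_lit 0)], [.ofNat (nat_lit 1), .ofNat (nat_lit 0), .ofNat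 (nat_lit 0), .ofNat (nat_lit 0), .ofNat (nat_lit 0), .ofNat (nat_lit 0), .negSucc (nat_lit 0), .ofNat (nat_lit 1)], [.ofNat (nat_lit 0), .ofNat (nat_lit 0), .negSucc (nat_lit 0), .ofNat (nat_lit 1), .ofNat (nat_lit 0), .negSucc (nat_lit 0), .ofNat (nat_lit 1), .ofNat (nat_lit 0)], [.ofNat (nat_lit 0), .ofNat (nat_lit 1), .ofNat (nat_lit 0), .negSucc (nat_lit 0), .ofNat (nat_lit 0), .ofNat (nat_lit 1), .ofNat (nat_lit 0), .ofNat (nat_lit 0)], [.negSucc (nat_lit 0), .ofNat (nat_lit 0), .ofNat (nat_lit 1), .ofNat (nat_lit 0), .ofNat (nat_lit 0), .ofNat (nat_lit 0), .negSucc (nat_lit 0), .ofNat (nat_lit 1)], [.ofNat (nat_lit 1), .ofNat (nat_lit 0), .ofNat (nat_lit 0), .ofNat (nat_lit 0), .ofNat (nat_lit 0), .ofNat (nat_lit 0), .ofNat (nat_lit 0), .negSucc (nat_lit 0)], [.ofNat (nat_lit 0), .ofNat (nat_lit 0), .negSucc (nat_lit 0), .ofNat (nat_lit 1), .ofNat (nat_lit 0), .ofNat (nat_lit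 0), .negSucc (nat_lit 0), .ofNat (nat_lit 1)], [.ofNat (nat_lit 0), .ofNat (nat_lit 1), .ofNat (nat_lit 0), .negSucc (nat_lit 0), .ofNat (nat_lit 1), .negSucc (nat_lit 0), .ofNat (nat_lit 1), .ofNat (nat_lit 0)], [.ofNat (nat_lit 0), .negSucc (nat_lit 0), .ofNat (nat_lit 0), .ofNat (nat_lit 0), .ofNat (nat_lit 0), .ofNat (nat_lit 1), .ofNat (nat_lit 0), .ofNat (nat_lit 0)], [.negSucc (nat_lit 0), .ofNat (nat_lit 0), .ofNat (nat_lit 1), .ofNat (nat_lit 0), .ofNat (nat_lit 0), .ofNat (nat_lit 0), .ofNat (nat_lit 0), .negSucc (nat_lit 0)], [.ofNat (nat_lit 0), .ofNat (nat_lit 0), .negSucc (nat_lit 0), .ofNat (nat_lit 1), .ofNat (nat_lit 0), .ofNat (nat_lit 0), .ofNat (nat_lit 0), .negSucc (nat_lit 0)], [.ofNat (nat_lit 0), .ofNat (nat_lit 1), .ofNat (nat_lit 0), .negSucc (nat_lit 0), .ofNat (nat_lit 1), .ofNat (nat_lit 0), .negSucc (nat_lit 0), .ofNat (nat_lit 1)], [.ofNat (nat_lit 0),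 .negSucc (nat_lit 0), .ofNat (nat_lit 0), .ofNat (nat_lit 0), .ofNat (nat_lit 1), .negSucc (nat_lit 0), .ofNat (nat_lit 1), .ofNat (nat_lit 0)], [.ofNat (nat_lit 0), .ofNat (nat_lit 1), .ofNat (nat_lit 0), .ofNat (nat_lit 0), .negSucc (nat_lit 0), .ofNat (nat_lit 0), .ofNat (nat_lit 1), .ofNat (nat_lit 0)], [.ofNat (nat_lit 0), .ofNat (nat_lit 1), .ofNat (nat_lit 0), .negSucc (nat_lit 0), .ofNat (nat_lit 1), .ofNat (nat_lit 0), .ofNat (nat_lit 0), .negSucc (nat_lit 0)], [.ofNat (nat_lit 0), .negSucc (nat_lit 0), .ofNat (nat_lit 0), .ofNat (nat_lit 0), .ofNat (nat_lit 1), .ofNat (nat_lit 0), .negSucc (nat_lit 0), .ofNat (nat_lit 1)], [.ofNat (nat_lit 0), .ofNat (nat_lit 1), .ofNat (nat_lit 0), .ofNat (nat_lit 0), .negSucc (nat_lit 0), .ofNat (nat_lit 1), .negSucc (nat_lit 0), .ofNat (nat_lit 1)], [.ofNat (nat_lit 0), .negSucc (nat_lit 0), .ofNat (nat_lit 0), .ofNat (nat_lit 1), .negSucc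 (nat_lit 0), .ofNat (nat_lit 0), .ofNat (nat_lit 1), .ofNat (nat_lit 0)], [.ofNat (nat_lit 0), .negSucc (nat_lit 0), .ofNat (nat_lit 0), .ofNat (nat_lit 0), .ofNat (nat_lit 1), .ofNat (nat_lit 0), .ofNat (nat_lit 0), .negSucc (nat_lit 0)], [.ofNat (nat_lit 0), .ofNat (nat_lit 1), .ofNat (nat_lit 0), .ofNat (nat_lit 0), .negSucc (nat_lit 0), .ofNat (nat_lit 1), .ofNat (nat_lit 0), .negSucc (nat_lit 0)], [.ofNat (nat_lit 0), .negSucc (nat_lit 0), .ofNat (nat_lit 0), .ofNat (nat_lit 1), .negSucc (nat_lit 0), .ofNat (nat_lit 1), .negSucc (nat_lit 0), .ofNat (nat_lit 1)], [.ofNat (nat_lit 0), .ofNat (nat_lit 1), .ofNat (nat_lit 0), .ofNat (nat_lit 0), .ofNat (nat_lit 0), .negSucc (nat_lit 0), .ofNat (nat_lit 0), .ofNat (nat_lit 1)], [.ofNat (nat_lit 0), .ofNat (nat_lit 0), .ofNat (nat_lit 1), .negSucc (nat_lit 0), .ofNat (nat_lit 0), .ofNat (nat_lit 0), .ofNat (nat_lit 1), .ofNat (nat_lit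 0)], [.ofNat (nat_lit 0), .negSucc (nat_lit 0), .ofNat (nat_lit 0), .ofNat (nat_lit 1), .negSucc (nat_lit 0), .ofNat (nat_lit 1), .ofNat (nat_lit 0), .negSucc (nat_lit 0)], [.ofNat (nat_lit 0), .ofNat (nat_lit 1), .ofNat (nat_lit 0), .ofNat (nat_lit 0), .ofNat (nat_lit 0), .negSucc (nat_lit 0), .ofNat (nat_lit 1), .negSucc (nat_lit 0)], [.ofNat (nat_lit 0), .negSucc (nat_lit 0), .ofNat (nat_lit 0), .ofNat (nat_lit 1), .ofNat (nat_lit 0), .negSucc (nat_lit 0), .ofNat (nat_lit 0), .ofNat (nat_lit 1)], [.ofNat (nat_lit 0), .ofNat (nat_lit 0), .ofNat (nat_lit 1), .negSucc (nat_lit 0), .ofNat (nat_lit 0), .ofNat (nat_lit 1), .negSucc (nat_lit 0), .ofNat (nat_lit 1)], [.ofNat (nat_lit 1), .ofNat (nat_lit 0), .negSucc (nat_lit 0), .ofNat (nat_lit 0), .ofNat (nat_lit 0), .ofNat (nat_lit 0), .ofNat (nat_lit 1), .ofNat (nat_lit 0)], [.ofNat (nat_lit 0), .negSucc (nat_lit 0), .ofNat (nat_lit 0),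 .ofNat (nat_lit 1), .ofNat (nat_lit 0), .negSucc (nat_lit 0), .ofNat (nat_lit 1), .negSucc (nat_lit 0)], [.ofNat (nat_lit 0), .ofNat (nat_lit 0), .ofNat (nat_lit 1), .negSucc (nat_lit 0), .ofNat (nat_lit 0), .ofNat (nat_lit 1), .ofNat (nat_lit 0), .negSucc (nat_lit 0)], [.ofNat (nat_lit 0), .ofNat (nat_lit 1), .ofNat (nat_lit 0), .ofNat (nat_lit 0), .ofNat (nat_lit 0), .ofNat (nat_lit 0), .negSucc (nat_lit 0), .ofNat (nat_lit 0)], [.ofNat (nat_lit 0), .ofNat (nat_lit 0), .ofNat (nat_lit 1), .negSucc (nat_lit 0), .ofNat (nat_lit 1), .negSucc (nat_lit 0), .ofNat (nat_lit 0), .ofNat (nat_lit 1)], [.ofNat (nat_lit 1), .ofNat (nat_lit 0), .negSucc (nat_lit 0), .ofNat (nat_lit 0), .ofNat (nat_lit 0), .ofNat (nat_lit 1), .negSucc (nat_lit 0), .ofNat (nat_lit 1)], [.negSucc (nat_lit 0), .ofNat (nat_lit 0), .ofNat (nat_lit 0), .ofNat (nat_lit 0), .ofNat (nat_lit 0), .ofNat (nat_lit 0), .ofNat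 (nat_lit 1), .ofNat (nat_lit 0)], [.ofNat (nat_lit 0), .negSucc (nat_lit 0), .ofNat (nat_lit 0), .ofNat (nat_lit 1), .ofNat (nat_lit 0), .ofNat (nat_lit 0), .negSucc (nat_lit 0), .ofNat (nat_lit 0)], [.ofNat (nat_lit 0), .ofNat (nat_lit 0), .ofNat (nat_lit 1), .negSucc (nat_lit 0), .ofNat (nat_lit 1), .negSucc (nat_lit 0), .ofNat (nat_lit 1), .negSucc (nat_lit 0)], [.ofNat (nat_lit 1), .ofNat (nat_lit 0), .negSucc (nat_lit 0), .ofNat (nat_lit 0), .ofNat (nat_lit 0), .ofNat (nat_lit 1), .ofNat (nat_lit 0), .negSucc (nat_lit 0)], [.ofNat (nat_lit 1), .ofNat (nat_lit 0), .negSucc (nat_lit 0), .ofNat (nat_lit 0), .ofNat (nat_lit 1), .negSucc (nat_lit 0), .ofNat (nat_lit 0), .ofNat (nat_lit 1)], [.ofNat (nat_lit 0), .ofNat (nat_lit 0), .ofNat (nat_lit 1), .ofNat (nat_lit 0), .negSucc (nat_lit 0), .ofNat (nat_lit 0), .ofNat (nat_lit 0), .ofNat (nat_lit 1)], [.negSucc (nat_lit 0), .ofNat (nat_lit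 0), .ofNat (nat_lit 0), .ofNat (nat_lit 0), .ofNat (nat_lit 0), .ofNat (nat_lit 1), .negSucc (nat_lit 0), .ofNat (nat_lit 1)], [.ofNat (nat_lit 0), .ofNat (nat_lit 0), .ofNat (nat_lit 1), .negSucc (nat_lit 0), .ofNat (nat_lit 1), .ofNat (nat_lit 0), .negSucc (nat_lit 0), .ofNat (nat_lit 0)], [.ofNat (nat_lit 1), .ofNat (nat_lit 0), .negSucc (nat_lit 0), .ofNat (nat_lit 0), .ofNat (nat_lit 1), .negSucc (nat_lit 0), .ofNat (nat_lit 1), .negSucc (nat_lit 0)], [.ofNat (nat_lit 0), .ofNat (nat_lit 0), .ofNat (nat_lit 1), .ofNat (nat_lit 0), .negSucc (nat_lit 0), .ofNat (nat_lit 0), .ofNat (nat_lit 1), .negSucc (nat_lit 0)], [.negSucc (nat_lit 0), .ofNat (nat_lit 0), .ofNat (nat_lit 0), .ofNat (nat_lit 0), .ofNat (nat_lit 0), .ofNat (nat_lit 1), .ofNat (nat_lit 0), .negSucc (nat_lit 0)], [.negSucc (nat_lit 0), .ofNat (nat_lit 0), .ofNat (nat_lit 0), .ofNat (nat_lit 0), .ofNat (nat_lit 1),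 .negSucc (nat_lit 0), .ofNat (nat_lit 0), .ofNat (nat_lit 1)], [.ofNat (nat_lit 1), .ofNat (nat_lit 0), .negSucc (nat_lit 0), .ofNat (nat_lit 1), .negSucc (nat_lit 0), .ofNat (nat_lit 0), .ofNat (nat_lit 0), .ofNat (nat_lit 1)], [.ofNat (nat_lit 1), .ofNat (nat_lit 0), .negSucc (nat_lit 0), .ofNat (nat_lit 0), .ofNat (nat_lit 1), .ofNat (nat_lit 0), .negSucc (nat_lit 0), .ofNat (nat_lit 0)], [.ofNat (nat_lit 0), .ofNat (nat_lit 0), .ofNat (nat_lit 1), .ofNat (nat_lit 0), .negSucc (nat_lit 0), .ofNat (nat_lit 1), .negSucc (nat_lit 0), .ofNat (nat_lit 0)], [.negSucc (nat_lit 0), .ofNat (nat_lit 0), .ofNat (nat_lit 0), .ofNat (nat_lit 0), .ofNat (nat_lit 1), .negSucc (nat_lit 0), .ofNat (nat_lit 1), .negSucc (nat_lit 0)], [.ofNat (nat_lit 1), .ofNat (nat_lit 0), .negSucc (nat_lit 0), .ofNat (nat_lit 1), .negSucc (nat_lit 0), .ofNat (nat_lit 0), .ofNat (nat_lit 1), .negSucc (nat_lit 0)],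 [.negSucc (nat_lit 0), .ofNat (nat_lit 0), .ofNat (nat_lit 0), .ofNat (nat_lit 1), .negSucc (nat_lit 0), .ofNat (nat_lit 0), .ofNat (nat_lit 0), .ofNat (nat_lit 1)], [.ofNat (nat_lit 1), .ofNat (nat_lit 1), .ofNat (nat_lit 0), .negSucc (nat_lit 0), .ofNat (nat_lit 0), .ofNat (nat_lit 0), .ofNat (nat_lit 0), .ofNat (nat_lit 1)], [.negSucc (nat_lit 0), .ofNat (nat_lit 0), .ofNat (nat_lit 0), .ofNat (nat_lit 0), .ofNat (nat_lit 1), .ofNat (nat_lit 0), .negSucc (nat_lit 0), .ofNat (nat_lit 0)], [.ofNat (nat_lit 1), .ofNat (nat_lit 0), .negSucc (nat_lit 0), .ofNat (nat_lit 1), .negSucc (nat_lit 0), .ofNat (nat_lit 1), .negSucc (nat_lit 0), .ofNat (nat_lit 0)], [.ofNat (nat_lit 0), .ofNat (nat_lit 0), .ofNat (nat_lit 1), .ofNat (nat_lit 0), .ofNat (nat_lit 0), .negSucc (nat_lit 0), .ofNat (nat_lit 0), .ofNat (nat_lit 0)], [.negSucc (nat_lit 0), .ofNat (nat_lit 0), .ofNat (nat_lit 0), .ofNat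 (nat_lit 1), .negSucc (nat_lit 0), .ofNat (nat_lit 0), .ofNat (nat_lit 1), .negSucc (nat_lit 0)], [.ofNat (nat_lit 1), .ofNat (nat_lit 1), .ofNat (nat_lit 0), .negSucc (nat_lit 0), .ofNat (nat_lit 0), .ofNat (nat_lit 0), .ofNat (nat_lit 1), .negSucc (nat_lit 0)], [.negSucc (nat_lit 0), .ofNat (nat_lit 1), .ofNat (nat_lit 1), .negSucc (nat_lit 0), .ofNat (nat_lit 0), .ofNat (nat_lit 0), .ofNat (nat_lit 0), .ofNat (nat_lit 1)], [.ofNat (nat_lit 1), .negSucc (nat_lit 0), .ofNat (nat_lit 0), .ofNat (nat_lit 0), .ofNat (nat_lit 0), .ofNat (nat_lit 0), .ofNat (nat_lit 0), .ofNat (nat_lit 1)], [.negSucc (nat_lit 0), .ofNat (nat_lit 0), .ofNat (nat_lit 0), .ofNat (nat_lit 1), .negSucc (nat_lit 0), .ofNat (nat_lit 1), .negSucc (nat_lit 0), .ofNat (nat_lit 0)], [.ofNat (nat_lit 1), .ofNat (nat_lit 0), .negSucc (nat_lit 0), .ofNat (nat_lit 1), .ofNat (nat_lit 0), .negSucc (nat_lit 0), .ofNat (nat_lit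 0), .ofNat (nat_lit 0)], [.ofNat (nat_lit 1), .ofNat (nat_lit 1), .ofNat (nat_lit 0), .negSucc (nat_lit 0), .ofNat (nat_lit 0), .ofNat (nat_lit 1), .negSucc (nat_lit 0), .ofNat (nat_lit 0)], [.negSucc (nat_lit 0), .ofNat (nat_lit 1), .ofNat (nat_lit 1), .negSucc (nat_lit 0), .ofNat (nat_lit 0), .ofNat (nat_lit 0), .ofNat (nat_lit 1), .negSucc (nat_lit 0)], [.ofNat (nat_lit 1), .negSucc (nat_lit 0), .ofNat (nat_lit 0), .ofNat (nat_lit 0), .ofNat (nat_lit 0), .ofNat (nat_lit 0), .ofNat (nat_lit 1), .negSucc (nat_lit 0)], [.negSucc (nat_lit 0), .negSucc (nat_lit 0), .ofNat (nat_lit 1), .ofNat (nat_lit 0), .ofNat (nat_lit 0), .ofNat (nat_lit 0), .ofNat (nat_lit 0), .ofNat (nat_lit 1)], [.ofNat (nat_lit 0), .ofNat (nat_lit 1), .negSucc (nat_lit 0), .ofNat (nat_lit 0), .ofNat (nat_lit 0), .ofNat (nat_lit 0), .ofNat (nat_lit 0), .ofNat (nat_lit 1)], [.negSucc (nat_lit 0), .ofNat (nat_lit 0),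 .ofNat (nat_lit 0), .ofNat (nat_lit 1), .ofNat (nat_lit 0), .negSucc (nat_lit 0), .ofNat (nat_lit 0), .ofNat (nat_lit 0)], [.negSucc (nat_lit 0), .ofNat (nat_lit 1), .ofNat (nat_lit 1), .negSucc (nat_lit 0), .ofNat (nat_lit 0), .ofNat (nat_lit 1), .negSucc (nat_lit 0), .ofNat (nat_lit 0)], [.ofNat (nat_lit 1), .ofNat (nat_lit 1), .ofNat (nat_lit 0), .negSucc (nat_lit 0), .ofNat (nat_lit 1), .negSucc (nat_lit 0), .ofNat (nat_lit 0), .ofNat (nat_lit 0)], [.ofNat (nat_lit 1), .negSucc (nat_lit 0), .ofNat (nat_lit 0), .ofNat (nat_lit 0), .ofNat (nat_lit 0), .ofNat (nat_lit 1), .negSucc (nat_lit 0), .ofNat (nat_lit 0)], [.negSucc (nat_lit 0), .negSucc (nat_lit 0), .ofNat (nat_lit 1), .ofNat (nat_lit 0), .ofNat (nat_lit 0), .ofNat (nat_lit 0), .ofNat (nat_lit 1), .negSucc (nat_lit 0)], [.ofNat (nat_lit 0), .ofNat (nat_lit 1), .negSucc (nat_lit 0), .ofNat (nat_lit 0), .ofNat (nat_lit 0), .ofNat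 (nat_lit 0), .ofNat (nat_lit 1), .negSucc (nat_lit 0)], [.ofNat (nat_lit 0), .negSucc (nat_lit 0), .negSucc (nat_lit 0), .ofNat (nat_lit 1), .ofNat (nat_lit 0), .ofNat (nat_lit 0), .ofNat (nat_lit 0), .ofNat (nat_lit 1)], [.negSucc (nat_lit 0), .ofNat (nat_lit 1), .ofNat (nat_lit 1), .negSucc (nat_lit 0), .ofNat (nat_lit 1), .negSucc (nat_lit 0), .ofNat (nat_lit 0), .ofNat (nat_lit 0)], [.negSucc (nat_lit 0), .negSucc (nat_lit 0), .ofNat (nat_lit 1), .ofNat (nat_lit 0), .ofNat (nat_lit 0), .ofNat (nat_lit 1), .negSucc (nat_lit 0), .ofNat (nat_lit 0)], [.ofNat (nat_lit 0), .ofNat (nat_lit 1), .negSucc (nat_lit 0), .ofNat (nat_lit 0), .ofNat (nat_lit 0), .ofNat (nat_lit 1), .negSucc (nat_lit 0), .ofNat (nat_lit 0)], [.ofNat (nat_lit 1), .negSucc (nat_lit 0), .ofNat (nat_lit 0), .ofNat (nat_lit 0), .ofNat (nat_lit 1), .negSucc (nat_lit 0), .ofNat (nat_lit 0), .ofNat (nat_lit 0)], [.ofNat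 (nat_lit 1), .ofNat (nat_lit 1), .ofNat (nat_lit 0), .ofNat (nat_lit 0), .negSucc (nat_lit 0), .ofNat (nat_lit 0), .ofNat (nat_lit 0), .ofNat (nat_lit 0)], [.ofNat (nat_lit 0), .negSucc (nat_lit 0), .negSucc (nat_lit 0), .ofNat (nat_lit 1), .ofNat (nat_lit 0), .ofNat (nat_lit 0), .ofNat (nat_lit 1), .negSucc (nat_lit 0)], [.ofNat (nat_lit 0), .ofNat (nat_lit 0), .ofNat (nat_lit 0), .negSucc (nat_lit 0), .ofNat (nat_lit 1), .ofNat (nat_lit 0), .ofNat (nat_lit 0), .ofNat (nat_lit 1)], [.negSucc (nat_lit 0), .negSucc (nat_lit 0), .ofNat (nat_lit 1), .ofNat (nat_lit 0), .ofNat (nat_lit 1), .negSucc (nat_lit 0), .ofNat (nat_lit 0), .ofNat (nat_lit 0)], [.ofNat (nat_lit 0), .ofNat (nat_lit 1), .negSucc (nat_lit 0), .ofNat (nat_lit 0), .ofNat (nat_lit 1), .negSucc (nat_lit 0), .ofNat (nat_lit 0), .ofNat (nat_lit 0)], [.negSucc (nat_lit 0), .ofNat (nat_lit 1), .ofNat (nat_lit 1), .ofNat (nat_lit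 0), .negSucc (nat_lit 0), .ofNat (nat_lit 0), .ofNat (nat_lit 0), .ofNat (nat_lit 0)], [.ofNat (nat_lit 0), .negSucc (nat_lit 0), .negSucc (nat_lit 0), .ofNat (nat_lit 1), .ofNat (nat_lit 0), .ofNat (nat_lit 1), .negSucc (nat_lit 0), .ofNat (nat_lit 0)], [.ofNat (nat_lit 1), .negSucc (nat_lit 0), .ofNat (nat_lit 0), .ofNat (nat_lit 1), .negSucc (nat_lit 0), .ofNat (nat_lit 0), .ofNat (nat_lit 0), .ofNat (nat_lit 0)], [.ofNat (nat_lit 0), .ofNat (nat_lit 0), .ofNat (nat_lit 0), .negSucc (nat_lit 0), .ofNat (nat_lit 1), .ofNat (nat_lit 0), .ofNat (nat_lit 1), .negSucc (nat_lit 0)], [.ofNat (nat_lit 0), .ofNat (nat_lit 0), .ofNat (nat_lit 0), .ofNat (nat_lit 0), .negSucc (nat_lit 0), .ofNat (nat_lit 1), .ofNat (nat_lit 0), .ofNat (nat_lit 1)], [.ofNat (nat_lit 0), .negSucc (nat_lit 0), .negSucc (nat_lit 0), .ofNat (nat_lit 1), .ofNat (nat_lit 1), .negSucc (nat_lit 0), .ofNat (nat_lit 0),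 .ofNat (nat_lit 0)], [.negSucc (nat_lit 0), .negSucc (nat_lit 0), .ofNat (nat_lit 1), .ofNat (nat_lit 1), .negSucc (nat_lit 0), .ofNat (nat_lit 0), .ofNat (nat_lit 0), .ofNat (nat_lit 0)], [.ofNat (nat_lit 0), .ofNat (nat_lit 1), .negSucc (nat_lit 0), .ofNat (nat_lit 1), .negSucc (nat_lit 0), .ofNat (nat_lit 0), .ofNat (nat_lit 0), .ofNat (nat_lit 0)], [.ofNat (nat_lit 0), .ofNat (nat_lit 0), .ofNat (nat_lit 0), .negSucc (nat_lit 0), .ofNat (nat_lit 1), .ofNat (nat_lit 1), .negSucc (nat_lit 0), .ofNat (nat_lit 0)], [.ofNat (nat_lit 1), .ofNat (nat_lit 0), .ofNat (nat_lit 1), .negSucc (nat_lit 0), .ofNat (nat_lit 0), .ofNat (nat_lit 0), .ofNat (nat_lit 0), .ofNat (nat_lit 0)], [.ofNat (nat_lit 0), .ofNat (nat_lit 0), .ofNat (nat_lit 0), .ofNat (nat_lit 0), .negSucc (nat_lit 0), .ofNat (nat_lit 1), .ofNat (nat_lit 1), .negSucc (nat_lit 0)], [.ofNat (nat_lit 0), .ofNat (nat_lit 0), .ofNat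 (nat_lit 0), .ofNat (nat_lit 0), .ofNat (nat_lit 0), .negSucc (nat_lit 0), .ofNat (nat_lit 1), .ofNat (nat_lit 1)], [.ofNat (nat_lit 0), .ofNat (nat_lit 0), .ofNat (nat_lit 0), .negSucc (nat_lit 0), .ofNat (nat_lit 2), .negSucc (nat_lit 0), .ofNat (nat_lit 0), .ofNat (nat_lit 0)], [.ofNat (nat_lit 0), .negSucc (nat_lit 0), .negSucc (nat_lit 0), .ofNat (nat_lit 2), .negSucc (nat_lit 0), .ofNat (nat_lit 0), .ofNat (nat_lit 0), .ofNat (nat_lit 0)], [.negSucc (nat_lit 0), .ofNat (nat_lit 0), .ofNat (nat_lit 2), .negSucc (nat_lit 0), .ofNat (nat_lit 0), .ofNat (nat_lit 0), .ofNat (nat_lit 0), .ofNat (nat_lit 0)], [.ofNat (nat_lit 0), .ofNat (nat_lit 2), .ofNat (nat_lit 0), .negSucc (nat_lit 0), .ofNat (nat_lit 0), .ofNat (nat_lit 0), .ofNat (nat_lit 0), .ofNat (nat_lit 0)], [.ofNat (nat_lit 0), .ofNat (nat_lit 0), .ofNat (nat_lit 0), .ofNat (nat_lit 0), .negSucc (nat_lit 0), .ofNat (nat_lit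 2), .negSucc (nat_lit 0), .ofNat (nat_lit 0)], [.ofNat (nat_lit 2), .ofNat (nat_lit 0), .negSucc (nat_lit 0), .ofNat (nat_lit 0), .ofNat (nat_lit 0), .ofNat (nat_lit 0), .ofNat (nat_lit 0), .ofNat (nat_lit 0)], [.ofNat (nat_lit 0), .ofNat (nat_lit 0), .ofNat (nat_lit 0), .ofNat (nat_lit 0), .ofNat (nat_lit 0), .negSucc (nat_lit 0), .ofNat (nat_lit 2), .negSucc (nat_lit 0)], [.ofNat (nat_lit 0), .ofNat (nat_lit 0), .ofNat (nat_lit 0), .ofNat (nat_lit 0), .ofNat (nat_lit 0), .ofNat (nat_lit 0), .negSucc (nat_lit 0), .ofNat (nat_lit 2)], [.ofNat (nat_lit 0), .ofNat (nat_lit 0), .ofNat (nat_lit 0), .ofNat (nat_lit 1), .negSucc (nat_lit 1), .ofNat (nat_lit 1), .ofNat (nat_lit 0), .ofNat (nat_lit 0)], [.ofNat (nat_lit 0), .ofNat (nat_lit 1), .ofNat (nat_lit 1), .negSucc (nat_lit 1), .ofNat (nat_lit 1), .ofNat (nat_lit 0), .ofNat (nat_lit 0), .ofNat (nat_lit 0)], [.ofNat (nat_lit 1), .ofNat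 (nat_lit 0), .negSucc (nat_lit 1), .ofNat (nat_lit 1), .ofNat (nat_lit 0), .ofNat (nat_lit 0), .ofNat (nat_lit 0), .ofNat (nat_lit 0)], [.ofNat (nat_lit 0), .negSucc (nat_lit 1), .ofNat (nat_lit 0), .ofNat (nat_lit 1), .ofNat (nat_lit 0), .ofNat (nat_lit 0), .ofNat (nat_lit 0), .ofNat (nat_lit 0)], [.ofNat (nat_lit 0), .ofNat (nat_lit 0), .ofNat (nat_lit 0), .ofNat (nat_lit 0), .ofNat (nat_lit 1), .negSucc (nat_lit 1), .ofNat (nat_lit 1), .ofNat (nat_lit 0)], [.negSucc (nat_lit 1), .ofNat (nat_lit 0), .ofNat (nat_lit 1), .ofNat (nat_lit 0), .ofNat (nat_lit 0), .ofNat (nat_lit 0), .ofNat (nat_lit 0), .ofNat (nat_lit 0)], [.ofNat (nat_lit 0), .ofNat (nat_lit 0), .ofNat (nat_lit 0), .ofNat (nat_lit 0), .ofNat (nat_lit 0), .ofNat (nat_lit 1), .negSucc (nat_lit 1), .ofNat (nat_lit 1)], [.ofNat (nat_lit 0), .ofNat (nat_lit 0), .ofNat (nat_lit 0), .ofNat (nat_lit 0), .ofNat (nat_lit 0), .ofNat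 (nat_lit 0), .ofNat (nat_lit 1), .negSucc (nat_lit 1)], [.ofNat (nat_lit 0), .ofNat (nat_lit 0), .ofNat (nat_lit 0), .ofNat (nat_lit 1), .negSucc (nat_lit 0), .negSucc (nat_lit 0), .ofNat (nat_lit 1), .ofNat (nat_lit 0)], [.ofNat (nat_lit 0), .ofNat (nat_lit 1), .ofNat (nat_lit 1), .negSucc (nat_lit 0), .negSucc (nat_lit 0), .ofNat (nat_lit 1), .ofNat (nat_lit 0), .ofNat (nat_lit 0)], [.ofNat (nat_lit 0), .negSucc (nat_lit 0), .ofNat (nat_lit 1), .negSucc (nat_lit 0), .ofNat (nat_lit 1), .ofNat (nat_lit 0), .ofNat (nat_lit 0), .ofNat (nat_lit 0)], [.ofNat (nat_lit 1), .ofNat (nat_lit 1), .negSucc (nat_lit 0), .negSucc (nat_lit 0), .ofNat (nat_lit 1), .ofNat (nat_lit 0), .ofNat (nat_lit 0), .ofNat (nat_lit 0)], [.negSucc (nat_lit 0), .ofNat (nat_lit 0), .negSucc (nat_lit 0), .ofNat (nat_lit 1), .ofNat (nat_lit 0), .ofNat (nat_lit 0), .ofNat (nat_lit 0), .ofNat (nat_lit 0)], [.ofNat (nat_lit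 0), .ofNat (nat_lit 0), .ofNat (nat_lit 0), .ofNat (nat_lit 0), .ofNat (nat_lit 1), .negSucc (nat_lit 0), .negSucc (nat_lit 0), .ofNat (nat_lit 1)], [.ofNat (nat_lit 0), .ofNat (nat_lit 0), .ofNat (nat_lit 0), .ofNat (nat_lit 0), .ofNat (nat_lit 0), .ofNat (nat_lit 1), .negSucc (nat_lit 0), .negSucc (nat_lit 0)], [.ofNat (nat_lit 0), .ofNat (nat_lit 0), .ofNat (nat_lit 0), .ofNat (nat_lit 1), .negSucc (nat_lit 0), .ofNat (nat_lit 0), .negSucc (nat_lit 0), .ofNat (nat_lit 1)], [.ofNat (nat_lit 0), .ofNat (nat_lit 1), .ofNat (nat_lit 1), .negSucc (nat_lit 0), .ofNat (nat_lit 0), .negSucc (nat_lit 0), .ofNat (nat_lit 1), .ofNat (nat_lit 0)], [.ofNat (nat_lit 0), .negSucc (nat_lit 0), .ofNat (nat_lit 1), .ofNat (nat_lit 0), .negSucc (nat_lit 0), .ofNat (nat_lit 1), .ofNat (nat_lit 0), .ofNat (nat_lit 0)], [.ofNat (nat_lit 1), .ofNat (nat_lit 1), .negSucc (nat_lit 0), .ofNat (nat_lit 0),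 .negSucc (nat_lit 0), .ofNat (nat_lit 1), .ofNat (nat_lit 0), .ofNat (nat_lit 0)], [.ofNat (nat_lit 1), .negSucc (nat_lit 0), .negSucc (nat_lit 0), .ofNat (nat_lit 0), .ofNat (nat_lit 1), .ofNat (nat_lit 0), .ofNat (nat_lit 0), .ofNat (nat_lit 0)], [.negSucc (nat_lit 0), .ofNat (nat_lit 1), .ofNat (nat_lit 0), .negSucc (nat_lit 0), .ofNat (nat_lit 1), .ofNat (nat_lit 0), .ofNat (nat_lit 0), .ofNat (nat_lit 0)], [.ofNat (nat_lit 0), .ofNat (nat_lit 0), .ofNat (nat_lit 0), .ofNat (nat_lit 0), .ofNat (nat_lit 1), .negSucc (nat_lit 0), .ofNat (nat_lit 0), .negSucc (nat_lit 0)], [.ofNat (nat_lit 0), .ofNat (nat_lit 0), .ofNat (nat_lit 0), .ofNat (nat_lit 1), .negSucc (nat_lit 0), .ofNat (nat_lit 0), .ofNat (nat_lit 0), .negSucc (nat_lit 0)], [.ofNat (nat_lit 0), .ofNat (nat_lit 1), .ofNat (nat_lit 1), .negSucc (nat_lit 0), .ofNat (nat_lit 0), .ofNat (nat_lit 0), .negSucc (nat_lit 0), .ofNat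 (nat_lit 1)], [.ofNat (nat_lit 0), .negSucc (nat_lit 0), .ofNat (nat_lit 1), .ofNat (nat_lit 0), .ofNat (nat_lit 0), .negSucc (nat_lit 0), .ofNat (nat_lit 1), .ofNat (nat_lit 0)], [.ofNat (nat_lit 1), .ofNat (nat_lit 1), .negSucc (nat_lit 0), .ofNat (nat_lit 0), .ofNat (nat_lit 0), .negSucc (nat_lit 0), .ofNat (nat_lit 1), .ofNat (nat_lit 0)], [.ofNat (nat_lit 1), .negSucc (nat_lit 0), .negSucc (nat_lit 0), .ofNat (nat_lit 1), .negSucc (nat_lit 0), .ofNat (nat_lit 1), .ofNat (nat_lit 0), .ofNat (nat_lit 0)], [.negSucc (nat_lit 0), .ofNat (nat_lit 1), .ofNat (nat_lit 0), .ofNat (nat_lit 0), .negSucc (nat_lit 0), .ofNat (nat_lit 1), .ofNat (nat_lit 0), .ofNat (nat_lit 0)], [.negSucc (nat_lit 0), .negSucc (nat_lit 0), .ofNat (nat_lit 0), .ofNat (nat_lit 0), .ofNat (nat_lit 1), .ofNat (nat_lit 0), .ofNat (nat_lit 0), .ofNat (nat_lit 0)], [.ofNat (nat_lit 0), .ofNat (nat_lit 1), .ofNat (nat_lit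 1), .negSucc (nat_lit 0), .ofNat (nat_lit 0), .ofNat (nat_lit 0), .ofNat (nat_lit 0), .negSucc (nat_lit 0)], [.ofNat (nat_lit 0), .negSucc (nat_lit 0), .ofNat (nat_lit 1), .ofNat (nat_lit 0), .ofNat (nat_lit 0), .ofNat (nat_lit 0), .negSucc (nat_lit 0), .ofNat (nat_lit 1)], [.ofNat (nat_lit 1), .ofNat (nat_lit 1), .negSucc (nat_lit 0), .ofNat (nat_lit 0), .ofNat (nat_lit 0), .ofNat (nat_lit 0), .negSucc (nat_lit 0), .ofNat (nat_lit 1)], [.ofNat (nat_lit 1), .negSucc (nat_lit 0), .negSucc (nat_lit 0), .ofNat (nat_lit 1), .ofNat (nat_lit 0), .negSucc (nat_lit 0), .ofNat (nat_lit 1), .ofNat (nat_lit 0)], [.negSucc (nat_lit 0), .ofNat (nat_lit 1), .ofNat (nat_lit 0), .ofNat (nat_lit 0), .ofNat (nat_lit 0), .negSucc (nat_lit 0), .ofNat (nat_lit 1), .ofNat (nat_lit 0)], [.negSucc (nat_lit 0), .negSucc (nat_lit 0), .ofNat (nat_lit 0), .ofNat (nat_lit 1), .negSucc (nat_lit 0), .ofNat (nat_lit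 1), .ofNat (nat_lit 0), .ofNat (nat_lit 0)], [.ofNat (nat_lit 1), .ofNat (nat_lit 0), .ofNat (nat_lit 0), .negSucc (nat_lit 0), .ofNat (nat_lit 0), .ofNat (nat_lit 1), .ofNat (nat_lit 0), .ofNat (nat_lit 0)], [.ofNat (nat_lit 0), .negSucc (nat_lit 0), .ofNat (nat_lit 1), .ofNat (nat_lit 0), .ofNat (nat_lit 0), .ofNat (nat_lit 0), .ofNat (nat_lit 0), .negSucc (nat_lit 0)], [.ofNat (nat_lit 1), .ofNat (nat_lit 1), .negSucc (nat_lit 0), .ofNat (nat_lit 0), .ofNat (nat_lit 0), .ofNat (nat_lit 0), .ofNat (nat_lit 0), .negSucc (nat_lit 0)], [.ofNat (nat_lit 1), .negSucc (nat_lit 0), .negSucc (nat_lit 0), .ofNat (nat_lit 1), .ofNat (nat_lit 0), .ofNat (nat_lit 0), .negSucc (nat_lit 0), .ofNat (nat_lit 1)], [.negSucc (nat_lit 0), .ofNat (nat_lit 1), .ofNat (nat_lit 0), .ofNat (nat_lit 0), .ofNat (nat_lit 0), .ofNat (nat_lit 0), .negSucc (nat_lit 0), .ofNat (nat_lit 1)], [.negSucc (nat_lit 0),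 .negSucc (nat_lit 0), .ofNat (nat_lit 0), .ofNat (nat_lit 1), .ofNat (nat_lit 0), .negSucc (nat_lit 0), .ofNat (nat_lit 1), .ofNat (nat_lit 0)], [.ofNat (nat_lit 1), .ofNat (nat_lit 0), .ofNat (nat_lit 0), .negSucc (nat_lit 0), .ofNat (nat_lit 1), .negSucc (nat_lit 0), .ofNat (nat_lit 1), .ofNat (nat_lit 0)], [.negSucc (nat_lit 0), .ofNat (nat_lit 0), .ofNat (nat_lit 1), .negSucc (nat_lit 0), .ofNat (nat_lit 0), .ofNat (nat_lit 1), .ofNat (nat_lit 0), .ofNat (nat_lit 0)], [.ofNat (nat_lit 1), .negSucc (nat_lit 0), .negSucc (nat_lit 0), .ofNat (nat_lit 1), .ofNat (nat_lit 0), .ofNat (nat_lit 0), .ofNat (nat_lit 0), .negSucc (nat_lit 0)], [.negSucc (nat_lit 0), .ofNat (nat_lit 1), .ofNat (nat_lit 0), .ofNat (nat_lit 0), .ofNat (nat_lit 0), .ofNat (nat_lit 0), .ofNat (nat_lit 0), .negSucc (nat_lit 0)], [.negSucc (nat_lit 0), .negSucc (nat_lit 0), .ofNat (nat_lit 0), .ofNat (nat_lit 1),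 .ofNat (nat_lit 0), .ofNat (nat_lit 0), .negSucc (nat_lit 0), .ofNat (nat_lit 1)], [.ofNat (nat_lit 1), .ofNat (nat_lit 0), .ofNat (nat_lit 0), .negSucc (nat_lit 0), .ofNat (nat_lit 1), .ofNat (nat_lit 0), .negSucc (nat_lit 0), .ofNat (nat_lit 1)], [.negSucc (nat_lit 0), .ofNat (nat_lit 0), .ofNat (nat_lit 1), .negSucc (nat_lit 0), .ofNat (nat_lit 1), .negSucc (nat_lit 0), .ofNat (nat_lit 1), .ofNat (nat_lit 0)], [.ofNat (nat_lit 1), .ofNat (nat_lit 0), .ofNat (nat_lit 0), .ofNat (nat_lit 0), .negSucc (nat_lit 0), .ofNat (nat_lit 0), .ofNat (nat_lit 1), .ofNat (nat_lit 0)], [.ofNat (nat_lit 0), .ofNat (nat_lit 0), .negSucc (nat_lit 0), .ofNat (nat_lit 0), .ofNat (nat_lit 0), .ofNat (nat_lit 1), .ofNat (nat_lit 0), .ofNat (nat_lit 0)], [.negSucc (nat_lit 0), .negSucc (nat_lit 0), .ofNat (nat_lit 0), .ofNat (nat_lit 1), .ofNat (nat_lit 0), .ofNat (nat_lit 0), .ofNat (nat_lit 0), .negSucc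 (nat_lit 0)], [.ofNat (nat_lit 1), .ofNat (nat_lit 0), .ofNat (nat_lit 0), .negSucc (nat_lit 0), .ofNat (nat_lit 1), .ofNat (nat_lit 0), .ofNat (nat_lit 0), .negSucc (nat_lit 0)], [.negSucc (nat_lit 0), .ofNat (nat_lit 0), .ofNat (nat_lit 1), .negSucc (nat_lit 0), .ofNat (nat_lit 1), .ofNat (nat_lit 0), .negSucc (nat_lit 0), .ofNat (nat_lit 1)], [.ofNat (nat_lit 1), .ofNat (nat_lit 0), .ofNat (nat_lit 0), .ofNat (nat_lit 0), .negSucc (nat_lit 0), .ofNat (nat_lit 1), .negSucc (nat_lit 0), .ofNat (nat_lit 1)], [.ofNat (nat_lit 0), .ofNat (nat_lit 0), .negSucc (nat_lit 0), .ofNat (nat_lit 0), .ofNat (nat_lit 1), .negSucc (nat_lit 0), .ofNat (nat_lit 1), .ofNat (nat_lit 0)], [.negSucc (nat_lit 0), .ofNat (nat_lit 0), .ofNat (nat_lit 1), .ofNat (nat_lit 0), .negSucc (nat_lit 0), .ofNat (nat_lit 0), .ofNat (nat_lit 1), .ofNat (nat_lit 0)], [.negSucc (nat_lit 0), .ofNat (nat_lit 0), .ofNat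 (nat_lit 1), .negSucc (nat_lit 0), .ofNat (nat_lit 1), .ofNat (nat_lit 0), .ofNat (nat_lit 0), .negSucc (nat_lit 0)], [.ofNat (nat_lit 1), .ofNat (nat_lit 0), .ofNat (nat_lit 0), .ofNat (nat_lit 0), .negSucc (nat_lit 0), .ofNat (nat_lit 1), .ofNat (nat_lit 0), .negSucc (nat_lit 0)], [.ofNat (nat_lit 0), .ofNat (nat_lit 0), .negSucc (nat_lit 0), .ofNat (nat_lit 0), .ofNat (nat_lit 1), .ofNat (nat_lit 0), .negSucc (nat_lit 0), .ofNat (nat_lit 1)], [.negSucc (nat_lit 0), .ofNat (nat_lit 0), .ofNat (nat_lit 1), .ofNat (nat_lit 0), .negSucc (nat_lit 0), .ofNat (nat_lit 1), .negSucc (nat_lit 0), .ofNat (nat_lit 1)], [.ofNat (nat_lit 1), .ofNat (nat_lit 0), .ofNat (nat_lit 0), .ofNat (nat_lit 0), .ofNat (nat_lit 0), .negSucc (nat_lit 0), .ofNat (nat_lit 0), .ofNat (nat_lit 1)], [.ofNat (nat_lit 0), .ofNat (nat_lit 0), .negSucc (nat_lit 0), .ofNat (nat_lit 1), .negSucc (nat_lit 0), .ofNat (nat_lit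 0), .ofNat (nat_lit 1), .ofNat (nat_lit 0)], [.ofNat (nat_lit 0), .ofNat (nat_lit 0), .negSucc (nat_lit 0), .ofNat (nat_lit 0), .ofNat (nat_lit 1), .ofNat (nat_lit 0), .ofNat (nat_lit 0), .negSucc (nat_lit 0)], [.negSucc (nat_lit 0), .ofNat (nat_lit 0), .ofNat (nat_lit 1), .ofNat (nat_lit 0), .negSucc (nat_lit 0), .ofNat (nat_lit 1), .ofNat (nat_lit 0), .negSucc (nat_lit 0)], [.ofNat (nat_lit 1), .ofNat (nat_lit 0), .ofNat (nat_lit 0), .ofNat (nat_lit 0), .ofNat (nat_lit 0), .negSucc (nat_lit 0), .ofNat (nat_lit 1), .negSucc (nat_lit 0)], [.ofNat (nat_lit 0), .ofNat (nat_lit 0), .negSucc (nat_lit 0), .ofNat (nat_lit 1), .negSucc (nat_lit 0), .ofNat (nat_lit 1), .negSucc (nat_lit 0), .ofNat (nat_lit 1)], [.negSucc (nat_lit 0), .ofNat (nat_lit 0), .ofNat (nat_lit 1), .ofNat (nat_lit 0), .ofNat (nat_lit 0), .negSucc (nat_lit 0), .ofNat (nat_lit 0), .ofNat (nat_lit 1)], [.ofNat (nat_lit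 0), .ofNat (nat_lit 1), .ofNat (nat_lit 0), .negSucc (nat_lit 0), .ofNat (nat_lit 0), .ofNat (nat_lit 0), .ofNat (nat_lit 1), .ofNat (nat_lit 0)], [.ofNat (nat_lit 0), .ofNat (nat_lit 0), .negSucc (nat_lit 0), .ofNat (nat_lit 1), .negSucc (nat_lit 0), .ofNat (nat_lit 1), .ofNat (nat_lit 0), .negSucc (nat_lit 0)], [.negSucc (nat_lit 0), .ofNat (nat_lit 0), .ofNat (nat_lit 1), .ofNat (nat_lit 0), .ofNat (nat_lit 0), .negSucc (nat_lit 0), .ofNat (nat_lit 1), .negSucc (nat_lit 0)], [.ofNat (nat_lit 1), .ofNat (nat_lit 0), .ofNat (nat_lit 0), .ofNat (nat_lit 0), .ofNat (nat_lit 0), .ofNat (nat_lit 0), .negSucc (nat_lit 0), .ofNat (nat_lit 0)], [.ofNat (nat_lit 0), .ofNat (nat_lit 0), .negSucc (nat_lit 0), .ofNat (nat_lit 1), .ofNat (nat_lit 0), .negSucc (nat_lit 0), .ofNat (nat_lit 0), .ofNat (nat_lit 1)], [.ofNat (nat_lit 0), .ofNat (nat_lit 1), .ofNat (nat_lit 0), .negSucc (nat_lit 0),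 .ofNat (nat_lit 0), .ofNat (nat_lit 1), .negSucc (nat_lit 0), .ofNat (nat_lit 1)], [.ofNat (nat_lit 0), .negSucc (nat_lit 0), .ofNat (nat_lit 0), .ofNat (nat_lit 0), .ofNat (nat_lit 0), .ofNat (nat_lit 0), .ofNat (nat_lit 1), .ofNat (nat_lit 0)], [.ofNat (nat_lit 0), .ofNat (nat_lit 0), .negSucc (nat_lit 0), .ofNat (nat_lit 1), .ofNat (nat_lit 0), .negSucc (nat_lit 0), .ofNat (nat_lit 1), .negSucc (nat_lit 0)], [.ofNat (nat_lit 0), .ofNat (nat_lit 1), .ofNat (nat_lit 0), .negSucc (nat_lit 0), .ofNat (nat_lit 0), .ofNat (nat_lit 1), .ofNat (nat_lit 0), .negSucc (nat_lit 0)], [.negSucc (nat_lit 0), .ofNat (nat_lit 0), .ofNat (nat_lit 1), .ofNat (nat_lit 0), .ofNat (nat_lit 0), .ofNat (nat_lit 0), .negSucc (nat_lit 0), .ofNat (nat_lit 0)], [.ofNat (nat_lit 0), .ofNat (nat_lit 1), .ofNat (nat_lit 0), .negSucc (nat_lit 0), .ofNat (nat_lit 1), .negSucc (nat_lit 0), .ofNat (nat_lit 0), .ofNat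 (nat_lit 1)], [.ofNat (nat_lit 0), .negSucc (nat_lit 0), .ofNat (nat_lit 0), .ofNat (nat_lit 0), .ofNat (nat_lit 0), .ofNat (nat_lit 1), .negSucc (nat_lit 0), .ofNat (nat_lit 1)], [.ofNat (nat_lit 0), .ofNat (nat_lit 0), .negSucc (nat_lit 0), .ofNat (nat_lit 1), .ofNat (nat_lit 0), .ofNat (nat_lit 0), .negSucc (nat_lit 0), .ofNat (nat_lit 0)], [.ofNat (nat_lit 0), .ofNat (nat_lit 1), .ofNat (nat_lit 0), .negSucc (nat_lit 0), .ofNat (nat_lit 1), .negSucc (nat_lit 0), .ofNat (nat_lit 1), .negSucc (nat_lit 0)], [.ofNat (nat_lit 0), .negSucc (nat_lit 0), .ofNat (nat_lit 0), .ofNat (nat_lit 0), .ofNat (nat_lit 0), .ofNat (nat_lit 1), .ofNat (nat_lit 0), .negSucc (nat_lit 0)], [.ofNat (nat_lit 0), .negSucc (nat_lit 0), .ofNat (nat_lit 0), .ofNat (nat_lit 0), .ofNat (nat_lit 1), .negSucc (nat_lit 0), .ofNat (nat_lit 0), .ofNat (nat_lit 1)], [.ofNat (nat_lit 0), .ofNat (nat_lit 1), .ofNat (nat_lit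 0), .ofNat (nat_lit 0), .negSucc (nat_lit 0), .ofNat (nat_lit 0), .ofNat (nat_lit 0), .ofNat (nat_lit 1)], [.ofNat (nat_lit 0), .ofNat (nat_lit 1), .ofNat (nat_lit 0), .negSucc (nat_lit 0), .ofNat (nat_lit 1), .ofNat (nat_lit 0), .negSucc (nat_lit 0), .ofNat (nat_lit 0)], [.ofNat (nat_lit 0), .negSucc (nat_lit 0), .ofNat (nat_lit 0), .ofNat (nat_lit 0), .ofNat (nat_lit 1), .negSucc (nat_lit 0), .ofNat (nat_lit 1), .negSucc (nat_lit 0)], [.ofNat (nat_lit 0), .ofNat (nat_lit 1), .ofNat (nat_lit 0), .ofNat (nat_lit 0), .negSucc (nat_lit 0), .ofNat (nat_lit 0), .ofNat (nat_lit 1), .negSucc (nat_lit 0)], [.ofNat (nat_lit 0), .negSucc (nat_lit 0), .ofNat (nat_lit 0), .ofNat (nat_lit 1), .negSucc (nat_lit 0), .ofNat (nat_lit 0), .ofNat (nat_lit 0), .ofNat (nat_lit 1)], [.ofNat (nat_lit 0), .negSucc (nat_lit 0), .ofNat (nat_lit 0), .ofNat (nat_lit 0), .ofNat (nat_lit 1), .ofNat (nat_lit 0),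 .negSucc (nat_lit 0), .ofNat (nat_lit 0)], [.ofNat (nat_lit 0), .ofNat (nat_lit 1), .ofNat (nat_lit 0), .ofNat (nat_lit 0), .negSucc (nat_lit 0), .ofNat (nat_lit 1), .negSucc (nat_lit 0), .ofNat (nat_lit 0)], [.ofNat (nat_lit 0), .negSucc (nat_lit 0), .ofNat (nat_lit 0), .ofNat (nat_lit 1), .negSucc (nat_lit 0), .ofNat (nat_lit 0), .ofNat (nat_lit 1), .negSucc (nat_lit 0)], [.ofNat (nat_lit 0), .ofNat (nat_lit 0), .ofNat (nat_lit 1), .negSucc (nat_lit 0), .ofNat (nat_lit 0), .ofNat (nat_lit 0), .ofNat (nat_lit 0), .ofNat (nat_lit 1)], [.ofNat (nat_lit 0), .negSucc (nat_lit 0), .ofNat (nat_lit 0), .ofNat (nat_lit 1), .negSucc (nat_lit 0), .ofNat (nat_lit 1), .negSucc (nat_lit 0), .ofNat (nat_lit 0)], [.ofNat (nat_lit 0), .ofNat (nat_lit 1), .ofNat (nat_lit 0), .ofNat (nat_lit 0), .ofNat (nat_lit 0), .negSucc (nat_lit 0), .ofNat (nat_lit 0), .ofNat (nat_lit 0)], [.ofNat (nat_lit 0), .ofNat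 (nat_lit 0), .ofNat (nat_lit 1), .negSucc (nat_lit 0), .ofNat (nat_lit 0), .ofNat (nat_lit 0), .ofNat (nat_lit 1), .negSucc (nat_lit 0)], [.ofNat (nat_lit 1), .ofNat (nat_lit 0), .negSucc (nat_lit 0), .ofNat (nat_lit 0), .ofNat (nat_lit 0), .ofNat (nat_lit 0), .ofNat (nat_lit 0), .ofNat (nat_lit 1)], [.ofNat (nat_lit 0), .negSucc (nat_lit 0), .ofNat (nat_lit 0), .ofNat (nat_lit 1), .ofNat (nat_lit 0), .negSucc (nat_lit 0), .ofNat (nat_lit 0), .ofNat (nat_lit 0)], [.ofNat (nat_lit 0), .ofNat (nat_lit 0), .ofNat (nat_lit 1), .negSucc (nat_lit 0), .ofNat (nat_lit 0), .ofNat (nat_lit 1), .negSucc (nat_lit 0), .ofNat (nat_lit 0)], [.ofNat (nat_lit 1), .ofNat (nat_lit 0), .negSucc (nat_lit 0), .ofNat (nat_lit 0), .ofNat (nat_lit 0), .ofNat (nat_lit 0), .ofNat (nat_lit 1), .negSucc (nat_lit 0)], [.negSucc (nat_lit 0), .ofNat (nat_lit 0), .ofNat (nat_lit 0), .ofNat (nat_lit 0), .ofNat (nat_lit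 0), .ofNat (nat_lit 0), .ofNat (nat_lit 0), .ofNat (nat_lit 1)], [.ofNat (nat_lit 0), .ofNat (nat_lit 0), .ofNat (nat_lit 1), .negSucc (nat_lit 0), .ofNat (nat_lit 1), .negSucc (nat_lit 0), .ofNat (nat_lit 0), .ofNat (nat_lit 0)], [.ofNat (nat_lit 1), .ofNat (nat_lit 0), .negSucc (nat_lit 0), .ofNat (nat_lit 0), .ofNat (nat_lit 0), .ofNat (nat_lit 1), .negSucc (nat_lit 0), .ofNat (nat_lit 0)], [.negSucc (nat_lit 0), .ofNat (nat_lit 0), .ofNat (nat_lit 0), .ofNat (nat_lit 0), .ofNat (nat_lit 0), .ofNat (nat_lit 0), .ofNat (nat_lit 1), .negSucc (nat_lit 0)], [.ofNat (nat_lit 1), .ofNat (nat_lit 0), .negSucc (nat_lit 0), .ofNat (nat_lit 0), .ofNat (nat_lit 1), .negSucc (nat_lit 0), .ofNat (nat_lit 0), .ofNat (nat_lit 0)], [.ofNat (nat_lit 0), .ofNat (nat_lit 0), .ofNat (nat_lit 1), .ofNat (nat_lit 0), .negSucc (nat_lit 0), .ofNat (nat_lit 0), .ofNat (nat_lit 0), .ofNat (nat_lit 0)], [.negSucc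 (nat_lit 0), .ofNat (nat_lit 0), .ofNat (nat_lit 0), .ofNat (nat_lit 0), .ofNat (nat_lit 0), .ofNat (nat_lit 1), .negSucc (nat_lit 0), .ofNat (nat_lit 0)], [.negSucc (nat_lit 0), .ofNat (nat_lit 0), .ofNat (nat_lit 0), .ofNat (nat_lit 0), .ofNat (nat_lit 1), .negSucc (nat_lit 0), .ofNat (nat_lit 0), .ofNat (nat_lit 0)], [.ofNat (nat_lit 1), .ofNat (nat_lit 0), .negSucc (nat_lit 0), .ofNat (nat_lit 1), .negSucc (nat_lit 0), .ofNat (nat_lit 0), .ofNat (nat_lit 0), .ofNat (nat_lit 0)], [.negSucc (nat_lit 0), .ofNat (nat_lit 0), .ofNat (nat_lit 0), .ofNat (nat_lit 1), .negSucc (nat_lit 0), .ofNat (nat_lit 0), .ofNat (nat_lit 0), .ofNat (nat_lit 0)], [.ofNat (nat_lit 1), .ofNat (nat_lit 1), .ofNat (nat_lit 0), .negSucc (nat_lit 0), .ofNat (nat_lit 0), .ofNat (nat_lit 0), .ofNat (nat_lit 0), .ofNat (nat_lit 0)], [.negSucc (nat_lit 0), .ofNat (nat_lit 1), .ofNat (nat_lit 1), .negSucc (nat_lit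 0), .ofNat (nat_lit 0), .ofNat (nat_lit 0), .ofNat (nat_lit 0), .ofNat (nat_lit 0)], [.ofNat (nat_lit 1), .negSucc (nat_lit 0), .ofNat (nat_lit 0), .ofNat (nat_lit 0), .ofNat (nat_lit 0), .ofNat (nat_lit 0), .ofNat (nat_lit 0), .ofNat (nat_lit 0)], [.negSucc (nat_lit 0), .negSucc (nat_lit 0), .ofNat (nat_lit 1), .ofNat (nat_lit 0), .ofNat (nat_lit 0), .ofNat (nat_lit 0), .ofNat (nat_lit 0), .ofNat (nat_lit 0)], [.ofNat (nat_lit 0), .ofNat (nat_lit 1), .negSucc (nat_lit 0), .ofNat (nat_lit 0), .ofNat (nat_lit 0), .ofNat (nat_lit 0), .ofNat (nat_lit 0), .ofNat (nat_lit 0)], [.ofNat (nat_lit 0), .negSucc (nat_lit 0), .negSucc (nat_lit 0), .ofNat (nat_lit 1), .ofNat (nat_lit 0), .ofNat (nat_lit 0), .ofNat (nat_lit 0), .ofNat (nat_lit 0)], [.ofNat (nat_lit 0), .ofNat (nat_lit 0), .ofNat (nat_lit 0), .negSucc (nat_lit 0), .ofNat (nat_lit 1), .ofNat (nat_lit 0), .ofNat (nat_lit 0), .ofNat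 (nat_lit 0)], [.ofNat (nat_lit 0), .ofNat (nat_lit 0), .ofNat (nat_lit 0), .ofNat (nat_lit 0), .negSucc (nat_lit 0), .ofNat (nat_lit 1), .ofNat (nat_lit 0), .ofNat (nat_lit 0)], [.ofNat (nat_lit 0), .ofNat (nat_lit 0), .ofNat (nat_lit 0), .ofNat (nat_lit 0), .ofNat (nat_lit 0), .negSucc (nat_lit 0), .ofNat (nat_lit 1), .ofNat (nat_lit 0)], [.ofNat (nat_lit 0), .ofNat (nat_lit 0), .ofNat (nat_lit 0), .ofNat (nat_lit 0), .ofNat (nat_lit 0), .ofNat (nat_lit 0), .negSucc (nat_lit 0), .ofNat (nat_lit 1)], [.ofNat (nat_lit 0), .ofNat (nat_lit 0), .ofNat (nat_lit 0), .ofNat (nat_lit 0), .ofNat (nat_lit 0), .ofNat (nat_lit 0), .ofNat (nat_lit 0), .negSucc (nat_lit 0)]]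
  par := [(nat_lit 0, nat_lit 7), (nat_lit 1, nat_lit 6), (nat_lit 2, nat_lit 5), (nat_lit 3, nat_lit 4), (nat_lit 4, nat_lit 3), (nat_lit 5, nat_lit 1), (nat_lit 5, nat_lit 2), (nat_lit 6, nat_lit 2), (nat_lit 7, nat_lit 0), (nat_lit 8, nat_lit 0), (nat_lit 8, nat_lit 3), (nat_lit 10, nat_lit 3), (nat_lit 11, nat_lit 4), (nat_lit 12, nat_lit 2), (nat_lit 12, nat_lit 4), (nat_lit 13, nat_lit 5), (nat_lit 14, nat_lit 4), (nat_lit 15, nat_lit 5), (nat_lit 16, nat_lit 6), (nat_lit 17, nat_lit 5), (nat_lit 17, nat_lit 3), (nat_lit 18, nat_lit 6), (nat_lit 19, nat_lit 7), (nat_lit 20, nat_lit 6), (nat_lit 20, nat_lit 3), (nat_lit 21, nat_lit 1), (nat_lit 22, nat_lit 7), (nat_lit 24, nat_lit 7), (nat_lit 24, nat_lit 3), (nat_lit 25, nat_lit 1), (nat_lit 25, nat_lit 4), (nat_lit 28, nat_lit 3), (nat_lit 29, nat_lit 1), (nat_lit 29, nat_lit 4), (nat_lit 30, nat_lit 4), (nat_lit 32, nat_lit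 1), (nat_lit 32, nat_lit 4), (nat_lit 33, nat_lit 4), (nat_lit 34, nat_lit 5), (nat_lit 35, nat_lit 3), (nat_lit 36, nat_lit 4), (nat_lit 37, nat_lit 5), (nat_lit 38, nat_lit 5), (nat_lit 38, nat_lit 3), (nat_lit 40, nat_lit 2), (nat_lit 41, nat_lit 5), (nat_lit 41, nat_lit 3), (nat_lit 42, nat_lit 6), (nat_lit 43, nat_lit 3), (nat_lit 44, nat_lit 2), (nat_lit 45, nat_lit 0), (nat_lit 46, nat_lit 6), (nat_lit 46, nat_lit 3), (nat_lit 47, nat_lit 2), (nat_lit 49, nat_lit 2), (nat_lit 49, nat_lit 4), (nat_lit 50, nat_lit 0), (nat_lit 52, nat_lit 3), (nat_lit 53, nat_lit 2), (nat_lit 53, nat_lit 4), (nat_lit 54, nat_lit 0), (nat_lit 55, nat_lit 0), (nat_lit 55, nat_lit 4), (nat_lit 58, nat_lit 2), (nat_lit 58, nat_lit 4), (nat_lit 59, nat_lit 0), (nat_lit 59, nat_lit 4), (nat_lit 62, nat_lit 4), (nat_lit 63, nat_lit 3), (nat_lit 64, nat_lit 0), (nat_lit 64, nat_lit 4), (nat_lit 65, nat_lit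 5), (nat_lit 66, nat_lit 4), (nat_lit 67, nat_lit 3), (nat_lit 68, nat_lit 3), (nat_lit 69, nat_lit 1), (nat_lit 70, nat_lit 4), (nat_lit 71, nat_lit 5), (nat_lit 71, nat_lit 3), (nat_lit 73, nat_lit 3), (nat_lit 74, nat_lit 1), (nat_lit 75, nat_lit 1), (nat_lit 75, nat_lit 2), (nat_lit 77, nat_lit 5), (nat_lit 77, nat_lit 3), (nat_lit 78, nat_lit 3), (nat_lit 79, nat_lit 1), (nat_lit 80, nat_lit 1), (nat_lit 80, nat_lit 2), (nat_lit 82, nat_lit 2), (nat_lit 84, nat_lit 3), (nat_lit 85, nat_lit 1), (nat_lit 85, nat_lit 2), (nat_lit 86, nat_lit 1), (nat_lit 86, nat_lit 4), (nat_lit 88, nat_lit 2), (nat_lit 90, nat_lit 3), (nat_lit 91, nat_lit 1), (nat_lit 91, nat_lit 2), (nat_lit 91, nat_lit 4), (nat_lit 92, nat_lit 2), (nat_lit 94, nat_lit 4), (nat_lit 96, nat_lit 3), (nat_lit 97, nat_lit 4), (nat_lit 98, nat_lit 2), (nat_lit 98, nat_lit 4), (nat_lit 99, nat_lit 4), (nat_lit 101, nat_lit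 3), (nat_lit 102, nat_lit 3), (nat_lit 103, nat_lit 4), (nat_lit 104, nat_lit 5), (nat_lit 105, nat_lit 3), (nat_lit 105, nat_lit 4), (nat_lit 106, nat_lit 3), (nat_lit 107, nat_lit 3), (nat_lit 108, nat_lit 4), (nat_lit 109, nat_lit 2), (nat_lit 110, nat_lit 5), (nat_lit 111, nat_lit 6), (nat_lit 112, nat_lit 4), (nat_lit 113, nat_lit 3), (nat_lit 114, nat_lit 2), (nat_lit 115, nat_lit 1), (nat_lit 116, nat_lit 5), (nat_lit 117, nat_lit 0), (nat_lit 118, nat_lit 6), (nat_lit 119, nat_lit 7), (nat_lit 120, nat_lit 5), (nat_lit 120, nat_lit 3), (nat_lit 121, nat_lit 1), (nat_lit 121, nat_lit 2), (nat_lit 122, nat_lit 0), (nat_lit 124, nat_lit 6), (nat_lit 126, nat_lit 7), (nat_lit 128, nat_lit 6), (nat_lit 128, nat_lit 3), (nat_lit 129, nat_lit 1), (nat_lit 129, nat_lit 2), (nat_lit 130, nat_lit 2), (nat_lit 131, nat_lit 0), (nat_lit 133, nat_lit 7), (nat_lit 135, nat_lit 7), (nat_lit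 135, nat_lit 3), (nat_lit 136, nat_lit 1), (nat_lit 136, nat_lit 2), (nat_lit 137, nat_lit 2), (nat_lit 138, nat_lit 0), (nat_lit 139, nat_lit 0), (nat_lit 142, nat_lit 3), (nat_lit 143, nat_lit 1), (nat_lit 143, nat_lit 2), (nat_lit 144, nat_lit 2), (nat_lit 145, nat_lit 0), (nat_lit 146, nat_lit 0), (nat_lit 146, nat_lit 3), (nat_lit 149, nat_lit 1), (nat_lit 149, nat_lit 2), (nat_lit 150, nat_lit 2), (nat_lit 151, nat_lit 0), (nat_lit 152, nat_lit 0), (nat_lit 152, nat_lit 3), (nat_lit 154, nat_lit 3), (nat_lit 156, nat_lit 2), (nat_lit 157, nat_lit 0), (nat_lit 158, nat_lit 0), (nat_lit 158, nat_lit 3), (nat_lit 160, nat_lit 3), (nat_lit 161, nat_lit 4), (nat_lit 162, nat_lit 2), (nat_lit 163, nat_lit 0), (nat_lit 163, nat_lit 3), (nat_lit 165, nat_lit 3), (nat_lit 166, nat_lit 4), (nat_lit 167, nat_lit 2), (nat_lit 167, nat_lit 4), (nat_lit 170, nat_lit 3), (nat_lit 171, nat_lit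 4), (nat_lit 172, nat_lit 2), (nat_lit 172, nat_lit 4), (nat_lit 173, nat_lit 5), (nat_lit 174, nat_lit 4), (nat_lit 176, nat_lit 2), (nat_lit 176, nat_lit 4), (nat_lit 177, nat_lit 5), (nat_lit 178, nat_lit 4), (nat_lit 179, nat_lit 5), (nat_lit 181, nat_lit 3), (nat_lit 182, nat_lit 4), (nat_lit 183, nat_lit 5), (nat_lit 184, nat_lit 6), (nat_lit 185, nat_lit 5), (nat_lit 185, nat_lit 3), (nat_lit 187, nat_lit 1), (nat_lit 188, nat_lit 5), (nat_lit 188, nat_lit 3), (nat_lit 189, nat_lit 6), (nat_lit 191, nat_lit 3), (nat_lit 192, nat_lit 1), (nat_lit 194, nat_lit 6), (nat_lit 194, nat_lit 3), (nat_lit 195, nat_lit 1), (nat_lit 197, nat_lit 1), (nat_lit 197, nat_lit 4), (nat_lit 199, nat_lit 3), (nat_lit 200, nat_lit 1), (nat_lit 200, nat_lit 4), (nat_lit 202, nat_lit 4), (nat_lit 204, nat_lit 1), (nat_lit 204, nat_lit 4), (nat_lit 205, nat_lit 4), (nat_lit 207, nat_lit 3), (nat_lit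 208, nat_lit 4), (nat_lit 209, nat_lit 5), (nat_lit 210, nat_lit 3), (nat_lit 211, nat_lit 2), (nat_lit 212, nat_lit 5), (nat_lit 212, nat_lit 3), (nat_lit 214, nat_lit 2), (nat_lit 215, nat_lit 0), (nat_lit 216, nat_lit 3), (nat_lit 217, nat_lit 2), (nat_lit 218, nat_lit 0), (nat_lit 220, nat_lit 2), (nat_lit 220, nat_lit 4), (nat_lit 221, nat_lit 0), (nat_lit 223, nat_lit 0), (nat_lit 223, nat_lit 4), (nat_lit 226, nat_lit 4), (nat_lit 227, nat_lit 3), (nat_lit 228, nat_lit 3), (nat_lit 229, nat_lit 1), (nat_lit 230, nat_lit 1), (nat_lit 230, nat_lit 2), (nat_lit 232, nat_lit 2), (nat_lit 234, nat_lit 3), (nat_lit 235, nat_lit 4), (nat_lit 236, nat_lit 5), (nat_lit 237, nat_lit 6), (nat_lit 238, nat_lit 7)]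
  succ := [[nat_lit 1, nat_lit 0, nat_lit 0, nat_lit 0, nat_lit 0, nat_lit 0, nat_lit 0, nat_lit 0], [nat_lit 0, nat_lit 2, nat_lit 1, nat_lit 1, nat_lit 1, nat_lit 1, nat_lit 1, nat_lit 1], [nat_lit 2, nat_lit 1, nat_lit 2, nat_lit 3, nat_lit 2, nat_lit 2, nat_lit 2, nat_lit 2], [nat_lit 3, nat_lit 3, nat_lit 3, nat_lit 2, nat_lit 3, nat_lit 3, nat_lit 3, nat_lit 4], [nat_lit 4, nat_lit 4, nat_lit 4, nat_lit 4, nat_lit 4, nat_lit 4, nat_lit 5, nat_lit 3], [nat_lit 5, nat_lit 5, nat_lit 5, nat_lit 5, nat_lit 6, nat_lit 7, nat_lit 4, nat_lit 5], [nat_lit 6, nat_lit 6, nat_lit 6, nat_lit 6, nat_lit 5, nat_lit 8, nat_lit 6, nat_lit 6], [nat_lit 7, nat_lit 7, nat_lit 9, nat_lit 7, nat_lit 8, nat_lit 5, nat_lit 7, nat_lit 7], [nat_lit 8, nat_lit 8, nat_lit 10, nat_lit 8, nat_lit 7, nat_lit 6, nat_lit 11, nat_lit 8], [nat_lit 9, nat_lit 9, nat_lit 7, nat_lit 9, nat_lit 10, nat_lit 9, nat_lit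 9, nat_lit 9], [nat_lit 10, nat_lit 10, nat_lit 8, nat_lit 10, nat_lit 9, nat_lit 10, nat_lit 12, nat_lit 10], [nat_lit 11, nat_lit 11, nat_lit 12, nat_lit 11, nat_lit 11, nat_lit 11, nat_lit 8, nat_lit 13], [nat_lit 12, nat_lit 12, nat_lit 11, nat_lit 12, nat_lit 12, nat_lit 14, nat_lit 10, nat_lit 15], [nat_lit 13, nat_lit 13, nat_lit 15, nat_lit 16, nat_lit 13, nat_lit 13, nat_lit 13, nat_lit 11], [nat_lit 14, nat_lit 14, nat_lit 14, nat_lit 14, nat_lit 14, nat_lit 12, nat_lit 14, nat_lit 17], [nat_lit 15, nat_lit 15, nat_lit 13, nat_lit 18, nat_lit 15, nat_lit 17, nat_lit 15, nat_lit 12], [nat_lit 16, nat_lit 19, nat_lit 18, nat_lit 13, nat_lit 16, nat_lit 16, nat_lit 16, nat_lit 16], [nat_lit 17, nat_lit 17, nat_lit 17, nat_lit 20, nat_lit 17, nat_lit 15, nat_lit 21, nat_lit 14], [nat_lit 18, nat_lit 22, nat_lit 16, nat_lit 15, nat_lit 18, nat_lit 20, nat_lit 18, nat_lit 18], [nat_lit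 23, nat_lit 16, nat_lit 22, nat_lit 19, nat_lit 19, nat_lit 19, nat_lit 19, nat_lit 19], [nat_lit 20, nat_lit 24, nat_lit 20, nat_lit 17, nat_lit 20, nat_lit 18, nat_lit 25, nat_lit 20], [nat_lit 21, nat_lit 21, nat_lit 21, nat_lit 25, nat_lit 26, nat_lit 21, nat_lit 17, nat_lit 21], [nat_lit 27, nat_lit 18, nat_lit 19, nat_lit 22, nat_lit 22, nat_lit 24, nat_lit 22, nat_lit 22], [nat_lit 19, nat_lit 23, nat_lit 27, nat_lit 23, nat_lit 23, nat_lit 23, nat_lit 23, nat_lit 23], [nat_lit 28, nat_lit 20, nat_lit 24, nat_lit 24, nat_lit 24, nat_lit 22, nat_lit 29, nat_lit 24], [nat_lit 25, nat_lit 29, nat_lit 25, nat_lit 21, nat_lit 30, nat_lit 25, nat_lit 20, nat_lit 31], [nat_lit 26, nat_lit 26, nat_lit 26, nat_lit 30, nat_lit 21, nat_lit 26, nat_lit 26, nat_lit 26], [nat_lit 22, nat_lit 27, nat_lit 23, nat_lit 27, nat_lit 27, nat_lit 28, nat_lit 27, nat_lit 27], [nat_lit 24, nat_lit 28,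 nat_lit 28, nat_lit 28, nat_lit 28, nat_lit 27, nat_lit 32, nat_lit 28], [nat_lit 32, nat_lit 25, nat_lit 29, nat_lit 29, nat_lit 33, nat_lit 29, nat_lit 24, nat_lit 34], [nat_lit 30, nat_lit 33, nat_lit 30, nat_lit 26, nat_lit 25, nat_lit 30, nat_lit 30, nat_lit 35], [nat_lit 31, nat_lit 34, nat_lit 31, nat_lit 31, nat_lit 35, nat_lit 31, nat_lit 31, nat_lit 25], [nat_lit 29, nat_lit 32, nat_lit 32, nat_lit 32, nat_lit 36, nat_lit 32, nat_lit 28, nat_lit 37], [nat_lit 36, nat_lit 30, nat_lit 33, nat_lit 33, nat_lit 29, nat_lit 33, nat_lit 33, nat_lit 38], [nat_lit 37, nat_lit 31, nat_lit 34, nat_lit 39, nat_lit 38, nat_lit 34, nat_lit 34, nat_lit 29], [nat_lit 35, nat_lit 38, nat_lit 35, nat_lit 35, nat_lit 31, nat_lit 35, nat_lit 40, nat_lit 30], [nat_lit 33, nat_lit 36, nat_lit 36, nat_lit 36, nat_lit 32, nat_lit 36, nat_lit 36, nat_lit 41], [nat_lit 34, nat_lit 37, nat_lit 37, nat_lit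 42, nat_lit 41, nat_lit 37, nat_lit 37, nat_lit 32], [nat_lit 41, nat_lit 35, nat_lit 38, nat_lit 43, nat_lit 34, nat_lit 38, nat_lit 44, nat_lit 33], [nat_lit 42, nat_lit 39, nat_lit 39, nat_lit 34, nat_lit 43, nat_lit 39, nat_lit 39, nat_lit 39], [nat_lit 40, nat_lit 44, nat_lit 40, nat_lit 40, nat_lit 40, nat_lit 45, nat_lit 35, nat_lit 40], [nat_lit 38, nat_lit 41, nat_lit 41, nat_lit 46, nat_lit 37, nat_lit 41, nat_lit 47, nat_lit 36], [nat_lit 39, nat_lit 48, nat_lit 42, nat_lit 37, nat_lit 46, nat_lit 42, nat_lit 42, nat_lit 42], [nat_lit 46, nat_lit 43, nat_lit 43, nat_lit 38, nat_lit 39, nat_lit 43, nat_lit 49, nat_lit 43], [nat_lit 47, nat_lit 40, nat_lit 44, nat_lit 49, nat_lit 44, nat_lit 50, nat_lit 38, nat_lit 44], [nat_lit 45, nat_lit 50, nat_lit 51, nat_lit 45, nat_lit 45, nat_lit 40, nat_lit 45, nat_lit 45], [nat_lit 43, nat_lit 52, nat_lit 46, nat_lit 41, nat_lit 42,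 nat_lit 46, nat_lit 53, nat_lit 46], [nat_lit 44, nat_lit 47, nat_lit 47, nat_lit 53, nat_lit 47, nat_lit 54, nat_lit 41, nat_lit 47], [nat_lit 48, nat_lit 42, nat_lit 48, nat_lit 48, nat_lit 52, nat_lit 48, nat_lit 48, nat_lit 48], [nat_lit 53, nat_lit 49, nat_lit 49, nat_lit 44, nat_lit 49, nat_lit 55, nat_lit 43, nat_lit 56], [nat_lit 54, nat_lit 45, nat_lit 57, nat_lit 55, nat_lit 50, nat_lit 44, nat_lit 50, nat_lit 50], [nat_lit 51, nat_lit 57, nat_lit 45, nat_lit 51, nat_lit 51, nat_lit 51, nat_lit 51, nat_lit 51], [nat_lit 52, nat_lit 46, nat_lit 52, nat_lit 52, nat_lit 48, nat_lit 52, nat_lit 58, nat_lit 52], [nat_lit 49, nat_lit 58, nat_lit 53, nat_lit 47, nat_lit 53, nat_lit 59, nat_lit 46, nat_lit 60], [nat_lit 50, nat_lit 54, nat_lit 61, nat_lit 59, nat_lit 54, nat_lit 47, nat_lit 54, nat_lit 54], [nat_lit 59, nat_lit 55, nat_lit 62, nat_lit 50, nat_lit 55, nat_lit 49, nat_lit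 55, nat_lit 63], [nat_lit 60, nat_lit 56, nat_lit 56, nat_lit 56, nat_lit 56, nat_lit 63, nat_lit 56, nat_lit 49], [nat_lit 61, nat_lit 51, nat_lit 50, nat_lit 62, nat_lit 57, nat_lit 57, nat_lit 57, nat_lit 57], [nat_lit 58, nat_lit 53, nat_lit 58, nat_lit 58, nat_lit 58, nat_lit 64, nat_lit 52, nat_lit 65], [nat_lit 55, nat_lit 64, nat_lit 66, nat_lit 54, nat_lit 59, nat_lit 53, nat_lit 59, nat_lit 67], [nat_lit 56, nat_lit 65, nat_lit 60, nat_lit 60, nat_lit 60, nat_lit 67, nat_lit 60, nat_lit 53], [nat_lit 57, nat_lit 61, nat_lit 54, nat_lit 66, nat_lit 61, nat_lit 61, nat_lit 61, nat_lit 61], [nat_lit 66, nat_lit 62, nat_lit 55, nat_lit 57, nat_lit 62, nat_lit 62, nat_lit 62, nat_lit 68], [nat_lit 67, nat_lit 63, nat_lit 68, nat_lit 63, nat_lit 63, nat_lit 56, nat_lit 69, nat_lit 55], [nat_lit 64, nat_lit 59, nat_lit 70, nat_lit 64, nat_lit 64, nat_lit 58, nat_lit 64, nat_lit 71],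 [nat_lit 65, nat_lit 60, nat_lit 65, nat_lit 72, nat_lit 65, nat_lit 71, nat_lit 65, nat_lit 58], [nat_lit 62, nat_lit 70, nat_lit 59, nat_lit 61, nat_lit 66, nat_lit 66, nat_lit 66, nat_lit 73], [nat_lit 63, nat_lit 71, nat_lit 73, nat_lit 67, nat_lit 67, nat_lit 60, nat_lit 74, nat_lit 59], [nat_lit 73, nat_lit 68, nat_lit 63, nat_lit 68, nat_lit 68, nat_lit 68, nat_lit 75, nat_lit 62], [nat_lit 74, nat_lit 69, nat_lit 75, nat_lit 69, nat_lit 76, nat_lit 69, nat_lit 63, nat_lit 69], [nat_lit 70, nat_lit 66, nat_lit 64, nat_lit 70, nat_lit 70, nat_lit 70, nat_lit 70, nat_lit 77], [nat_lit 71, nat_lit 67, nat_lit 77, nat_lit 78, nat_lit 71, nat_lit 65, nat_lit 79, nat_lit 64], [nat_lit 72, nat_lit 72, nat_lit 72, nat_lit 65, nat_lit 72, nat_lit 78, nat_lit 72, nat_lit 72], [nat_lit 68, nat_lit 77, nat_lit 67, nat_lit 73, nat_lit 73, nat_lit 73, nat_lit 80, nat_lit 66], [nat_lit 69,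 nat_lit 79, nat_lit 80, nat_lit 74, nat_lit 81, nat_lit 74, nat_lit 67, nat_lit 74], [nat_lit 80, nat_lit 75, nat_lit 69, nat_lit 75, nat_lit 82, nat_lit 83, nat_lit 68, nat_lit 75], [nat_lit 81, nat_lit 76, nat_lit 82, nat_lit 76, nat_lit 69, nat_lit 76, nat_lit 76, nat_lit 76], [nat_lit 77, nat_lit 73, nat_lit 71, nat_lit 84, nat_lit 77, nat_lit 77, nat_lit 85, nat_lit 70], [nat_lit 78, nat_lit 78, nat_lit 84, nat_lit 71, nat_lit 78, nat_lit 72, nat_lit 86, nat_lit 78], [nat_lit 79, nat_lit 74, nat_lit 85, nat_lit 86, nat_lit 87, nat_lit 79, nat_lit 71, nat_lit 79], [nat_lit 75, nat_lit 85, nat_lit 74, nat_lit 80, nat_lit 88, nat_lit 89, nat_lit 73, nat_lit 80], [nat_lit 76, nat_lit 87, nat_lit 88, nat_lit 81, nat_lit 74, nat_lit 81, nat_lit 81, nat_lit 81], [nat_lit 88, nat_lit 82, nat_lit 76, nat_lit 82, nat_lit 75, nat_lit 90, nat_lit 82, nat_lit 82], [nat_lit 89, nat_lit 83, nat_lit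 83, nat_lit 83, nat_lit 90, nat_lit 75, nat_lit 83, nat_lit 83], [nat_lit 84, nat_lit 84, nat_lit 78, nat_lit 77, nat_lit 84, nat_lit 84, nat_lit 91, nat_lit 84], [nat_lit 85, nat_lit 80, nat_lit 79, nat_lit 91, nat_lit 92, nat_lit 93, nat_lit 77, nat_lit 85], [nat_lit 86, nat_lit 86, nat_lit 91, nat_lit 79, nat_lit 94, nat_lit 86, nat_lit 78, nat_lit 95], [nat_lit 87, nat_lit 81, nat_lit 92, nat_lit 94, nat_lit 79, nat_lit 87, nat_lit 87, nat_lit 87], [nat_lit 82, nat_lit 92, nat_lit 81, nat_lit 88, nat_lit 80, nat_lit 96, nat_lit 88, nat_lit 88], [nat_lit 83, nat_lit 93, nat_lit 89, nat_lit 89, nat_lit 96, nat_lit 80, nat_lit 89, nat_lit 89], [nat_lit 96, nat_lit 90, nat_lit 90, nat_lit 90, nat_lit 83, nat_lit 82, nat_lit 97, nat_lit 90], [nat_lit 91, nat_lit 91, nat_lit 86, nat_lit 85, nat_lit 98, nat_lit 99, nat_lit 84, nat_lit 100], [nat_lit 92, nat_lit 88, nat_lit 87, nat_lit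 98, nat_lit 85, nat_lit 101, nat_lit 92, nat_lit 92], [nat_lit 93, nat_lit 89, nat_lit 93, nat_lit 99, nat_lit 101, nat_lit 85, nat_lit 93, nat_lit 93], [nat_lit 94, nat_lit 94, nat_lit 98, nat_lit 87, nat_lit 86, nat_lit 94, nat_lit 94, nat_lit 102], [nat_lit 95, nat_lit 95, nat_lit 100, nat_lit 95, nat_lit 102, nat_lit 95, nat_lit 95, nat_lit 86], [nat_lit 90, nat_lit 101, nat_lit 96, nat_lit 96, nat_lit 89, nat_lit 88, nat_lit 103, nat_lit 96], [nat_lit 103, nat_lit 97, nat_lit 97, nat_lit 97, nat_lit 97, nat_lit 97, nat_lit 90, nat_lit 104], [nat_lit 98, nat_lit 98, nat_lit 94, nat_lit 92, nat_lit 91, nat_lit 105, nat_lit 98, nat_lit 106], [nat_lit 99, nat_lit 99, nat_lit 99, nat_lit 93, nat_lit 105, nat_lit 91, nat_lit 99, nat_lit 107], [nat_lit 100, nat_lit 100, nat_lit 95, nat_lit 100, nat_lit 106, nat_lit 107, nat_lit 100, nat_lit 91], [nat_lit 101, nat_lit 96, nat_lit 101,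 nat_lit 105, nat_lit 93, nat_lit 92, nat_lit 108, nat_lit 101], [nat_lit 102, nat_lit 102, nat_lit 106, nat_lit 102, nat_lit 95, nat_lit 102, nat_lit 109, nat_lit 94], [nat_lit 97, nat_lit 108, nat_lit 103, nat_lit 103, nat_lit 103, nat_lit 103, nat_lit 96, nat_lit 110], [nat_lit 110, nat_lit 104, nat_lit 104, nat_lit 111, nat_lit 104, nat_lit 104, nat_lit 104, nat_lit 97], [nat_lit 105, nat_lit 105, nat_lit 105, nat_lit 101, nat_lit 99, nat_lit 98, nat_lit 112, nat_lit 113], [nat_lit 106, nat_lit 106, nat_lit 102, nat_lit 106, nat_lit 100, nat_lit 113, nat_lit 114, nat_lit 98], [nat_lit 107, nat_lit 107, nat_lit 107, nat_lit 107, nat_lit 113, nat_lit 100, nat_lit 115, nat_lit 99], [nat_lit 108, nat_lit 103, nat_lit 108, nat_lit 112, nat_lit 108, nat_lit 108, nat_lit 101, nat_lit 116], [nat_lit 109, nat_lit 109, nat_lit 114, nat_lit 109, nat_lit 109, nat_lit 117, nat_lit 102, nat_lit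 109], [nat_lit 104, nat_lit 116, nat_lit 110, nat_lit 118, nat_lit 110, nat_lit 110, nat_lit 110, nat_lit 103], [nat_lit 118, nat_lit 119, nat_lit 111, nat_lit 104, nat_lit 111, nat_lit 111, nat_lit 111, nat_lit 111], [nat_lit 112, nat_lit 112, nat_lit 112, nat_lit 108, nat_lit 112, nat_lit 112, nat_lit 105, nat_lit 120], [nat_lit 113, nat_lit 113, nat_lit 113, nat_lit 113, nat_lit 107, nat_lit 106, nat_lit 121, nat_lit 105], [nat_lit 114, nat_lit 114, nat_lit 109, nat_lit 114, nat_lit 114, nat_lit 122, nat_lit 106, nat_lit 114], [nat_lit 115, nat_lit 115, nat_lit 115, nat_lit 115, nat_lit 123, nat_lit 115, nat_lit 107, nat_lit 115], [nat_lit 116, nat_lit 110, nat_lit 116, nat_lit 124, nat_lit 116, nat_lit 116, nat_lit 116, nat_lit 108], [nat_lit 117, nat_lit 117, nat_lit 125, nat_lit 117, nat_lit 117, nat_lit 109, nat_lit 117, nat_lit 117], [nat_lit 111, nat_lit 126, nat_lit 118, nat_lit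 110, nat_lit 118, nat_lit 118, nat_lit 118, nat_lit 118], [nat_lit 127, nat_lit 111, nat_lit 119, nat_lit 119, nat_lit 119, nat_lit 119, nat_lit 119, nat_lit 119], [nat_lit 120, nat_lit 120, nat_lit 120, nat_lit 128, nat_lit 120, nat_lit 120, nat_lit 129, nat_lit 112], [nat_lit 121, nat_lit 121, nat_lit 121, nat_lit 121, nat_lit 130, nat_lit 131, nat_lit 113, nat_lit 129], [nat_lit 122, nat_lit 122, nat_lit 132, nat_lit 122, nat_lit 122, nat_lit 114, nat_lit 131, nat_lit 122], [nat_lit 123, nat_lit 123, nat_lit 123, nat_lit 123, nat_lit 115, nat_lit 123, nat_lit 130, nat_lit 123], [nat_lit 124, nat_lit 133, nat_lit 124, nat_lit 116, nat_lit 124, nat_lit 124, nat_lit 124, nat_lit 128], [nat_lit 125, nat_lit 125, nat_lit 117, nat_lit 125, nat_lit 125, nat_lit 132, nat_lit 125, nat_lit 125], [nat_lit 134, nat_lit 118, nat_lit 126, nat_lit 133, nat_lit 126, nat_lit 126, nat_lit 126, nat_lit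 126], [nat_lit 119, nat_lit 134, nat_lit 127, nat_lit 127, nat_lit 127, nat_lit 127, nat_lit 127, nat_lit 127], [nat_lit 128, nat_lit 135, nat_lit 128, nat_lit 120, nat_lit 128, nat_lit 128, nat_lit 136, nat_lit 124], [nat_lit 129, nat_lit 129, nat_lit 129, nat_lit 136, nat_lit 137, nat_lit 138, nat_lit 120, nat_lit 121], [nat_lit 130, nat_lit 130, nat_lit 130, nat_lit 130, nat_lit 121, nat_lit 139, nat_lit 123, nat_lit 137], [nat_lit 131, nat_lit 131, nat_lit 140, nat_lit 131, nat_lit 139, nat_lit 121, nat_lit 122, nat_lit 138], [nat_lit 132, nat_lit 132, nat_lit 122, nat_lit 132, nat_lit 132, nat_lit 125, nat_lit 140, nat_lit 132], [nat_lit 141, nat_lit 124, nat_lit 133, nat_lit 126, nat_lit 133, nat_lit 133, nat_lit 133, nat_lit 135], [nat_lit 126, nat_lit 127, nat_lit 134, nat_lit 141, nat_lit 134, nat_lit 134, nat_lit 134, nat_lit 134], [nat_lit 142, nat_lit 128, nat_lit 135, nat_lit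 135, nat_lit 135, nat_lit 135, nat_lit 143, nat_lit 133], [nat_lit 136, nat_lit 143, nat_lit 136, nat_lit 129, nat_lit 144, nat_lit 145, nat_lit 128, nat_lit 136], [nat_lit 137, nat_lit 137, nat_lit 137, nat_lit 144, nat_lit 129, nat_lit 146, nat_lit 137, nat_lit 130], [nat_lit 138, nat_lit 138, nat_lit 147, nat_lit 145, nat_lit 146, nat_lit 129, nat_lit 138, nat_lit 131], [nat_lit 139, nat_lit 139, nat_lit 148, nat_lit 139, nat_lit 131, nat_lit 130, nat_lit 139, nat_lit 146], [nat_lit 140, nat_lit 140, nat_lit 131, nat_lit 140, nat_lit 148, nat_lit 140, nat_lit 132, nat_lit 147], [nat_lit 133, nat_lit 141, nat_lit 141, nat_lit 134, nat_lit 141, nat_lit 141, nat_lit 141, nat_lit 142], [nat_lit 135, nat_lit 142, nat_lit 142, nat_lit 142, nat_lit 142, nat_lit 142, nat_lit 149, nat_lit 141], [nat_lit 149, nat_lit 136, nat_lit 143, nat_lit 143, nat_lit 150, nat_lit 151, nat_lit 135, nat_lit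 143], [nat_lit 144, nat_lit 150, nat_lit 144, nat_lit 137, nat_lit 136, nat_lit 152, nat_lit 144, nat_lit 144], [nat_lit 145, nat_lit 151, nat_lit 153, nat_lit 138, nat_lit 152, nat_lit 136, nat_lit 145, nat_lit 145], [nat_lit 146, nat_lit 146, nat_lit 154, nat_lit 152, nat_lit 138, nat_lit 137, nat_lit 155, nat_lit 139], [nat_lit 147, nat_lit 147, nat_lit 138, nat_lit 153, nat_lit 154, nat_lit 147, nat_lit 147, nat_lit 140], [nat_lit 148, nat_lit 148, nat_lit 139, nat_lit 148, nat_lit 140, nat_lit 148, nat_lit 148, nat_lit 154], [nat_lit 143, nat_lit 149, nat_lit 149, nat_lit 149, nat_lit 156, nat_lit 157, nat_lit 142, nat_lit 149], [nat_lit 156, nat_lit 144, nat_lit 150, nat_lit 150, nat_lit 143, nat_lit 158, nat_lit 150, nat_lit 150], [nat_lit 157, nat_lit 145, nat_lit 159, nat_lit 151, nat_lit 158, nat_lit 143, nat_lit 151, nat_lit 151], [nat_lit 152, nat_lit 158, nat_lit 160, nat_lit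 146, nat_lit 145, nat_lit 144, nat_lit 161, nat_lit 152], [nat_lit 153, nat_lit 159, nat_lit 145, nat_lit 147, nat_lit 160, nat_lit 153, nat_lit 153, nat_lit 153], [nat_lit 154, nat_lit 154, nat_lit 146, nat_lit 160, nat_lit 147, nat_lit 154, nat_lit 162, nat_lit 148], [nat_lit 155, nat_lit 155, nat_lit 162, nat_lit 161, nat_lit 155, nat_lit 155, nat_lit 146, nat_lit 155], [nat_lit 150, nat_lit 156, nat_lit 156, nat_lit 156, nat_lit 149, nat_lit 163, nat_lit 156, nat_lit 156], [nat_lit 151, nat_lit 157, nat_lit 164, nat_lit 157, nat_lit 163, nat_lit 149, nat_lit 157, nat_lit 157], [nat_lit 163, nat_lit 152, nat_lit 165, nat_lit 158, nat_lit 151, nat_lit 150, nat_lit 166, nat_lit 158], [nat_lit 164, nat_lit 153, nat_lit 151, nat_lit 159, nat_lit 165, nat_lit 159, nat_lit 159, nat_lit 159], [nat_lit 160, nat_lit 165, nat_lit 152, nat_lit 154, nat_lit 153, nat_lit 160, nat_lit 167, nat_lit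 160], [nat_lit 161, nat_lit 166, nat_lit 167, nat_lit 155, nat_lit 161, nat_lit 161, nat_lit 152, nat_lit 168], [nat_lit 162, nat_lit 162, nat_lit 155, nat_lit 167, nat_lit 162, nat_lit 169, nat_lit 154, nat_lit 162], [nat_lit 158, nat_lit 163, nat_lit 170, nat_lit 163, nat_lit 157, nat_lit 156, nat_lit 171, nat_lit 163], [nat_lit 159, nat_lit 164, nat_lit 157, nat_lit 164, nat_lit 170, nat_lit 164, nat_lit 164, nat_lit 164], [nat_lit 170, nat_lit 160, nat_lit 158, nat_lit 165, nat_lit 159, nat_lit 165, nat_lit 172, nat_lit 165], [nat_lit 171, nat_lit 161, nat_lit 172, nat_lit 166, nat_lit 166, nat_lit 166, nat_lit 158, nat_lit 173], [nat_lit 167, nat_lit 172, nat_lit 161, nat_lit 162, nat_lit 167, nat_lit 174, nat_lit 160, nat_lit 175], [nat_lit 168, nat_lit 173, nat_lit 175, nat_lit 168, nat_lit 168, nat_lit 168, nat_lit 168, nat_lit 161], [nat_lit 169, nat_lit 169, nat_lit 169, nat_lit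 174, nat_lit 169, nat_lit 162, nat_lit 169, nat_lit 169], [nat_lit 165, nat_lit 170, nat_lit 163, nat_lit 170, nat_lit 164, nat_lit 170, nat_lit 176, nat_lit 170], [nat_lit 166, nat_lit 171, nat_lit 176, nat_lit 171, nat_lit 171, nat_lit 171, nat_lit 163, nat_lit 177], [nat_lit 176, nat_lit 167, nat_lit 166, nat_lit 172, nat_lit 172, nat_lit 178, nat_lit 165, nat_lit 179], [nat_lit 177, nat_lit 168, nat_lit 179, nat_lit 180, nat_lit 173, nat_lit 173, nat_lit 173, nat_lit 166], [nat_lit 174, nat_lit 178, nat_lit 174, nat_lit 169, nat_lit 174, nat_lit 167, nat_lit 174, nat_lit 181], [nat_lit 175, nat_lit 179, nat_lit 168, nat_lit 175, nat_lit 175, nat_lit 181, nat_lit 175, nat_lit 167], [nat_lit 172, nat_lit 176, nat_lit 171, nat_lit 176, nat_lit 176, nat_lit 182, nat_lit 170, nat_lit 183], [nat_lit 173, nat_lit 177, nat_lit 183, nat_lit 184, nat_lit 177, nat_lit 177, nat_lit 177, nat_lit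 171], [nat_lit 182, nat_lit 174, nat_lit 178, nat_lit 178, nat_lit 178, nat_lit 172, nat_lit 178, nat_lit 185], [nat_lit 183, nat_lit 175, nat_lit 173, nat_lit 186, nat_lit 179, nat_lit 185, nat_lit 179, nat_lit 172], [nat_lit 184, nat_lit 180, nat_lit 186, nat_lit 173, nat_lit 180, nat_lit 180, nat_lit 180, nat_lit 180], [nat_lit 181, nat_lit 185, nat_lit 181, nat_lit 181, nat_lit 181, nat_lit 175, nat_lit 187, nat_lit 174], [nat_lit 178, nat_lit 182, nat_lit 182, nat_lit 182, nat_lit 182, nat_lit 176, nat_lit 182, nat_lit 188], [nat_lit 179, nat_lit 183, nat_lit 177, nat_lit 189, nat_lit 183, nat_lit 188, nat_lit 183, nat_lit 176], [nat_lit 180, nat_lit 190, nat_lit 189, nat_lit 177, nat_lit 184, nat_lit 184, nat_lit 184, nat_lit 184], [nat_lit 188, nat_lit 181, nat_lit 185, nat_lit 191, nat_lit 185, nat_lit 179, nat_lit 192, nat_lit 178], [nat_lit 189, nat_lit 186, nat_lit 180, nat_lit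 179, nat_lit 186, nat_lit 191, nat_lit 186, nat_lit 186], [nat_lit 187, nat_lit 192, nat_lit 187, nat_lit 187, nat_lit 193, nat_lit 187, nat_lit 181, nat_lit 187], [nat_lit 185, nat_lit 188, nat_lit 188, nat_lit 194, nat_lit 188, nat_lit 183, nat_lit 195, nat_lit 182], [nat_lit 186, nat_lit 196, nat_lit 184, nat_lit 183, nat_lit 189, nat_lit 194, nat_lit 189, nat_lit 189], [nat_lit 190, nat_lit 184, nat_lit 196, nat_lit 190, nat_lit 190, nat_lit 190, nat_lit 190, nat_lit 190], [nat_lit 194, nat_lit 191, nat_lit 191, nat_lit 185, nat_lit 191, nat_lit 186, nat_lit 197, nat_lit 191], [nat_lit 195, nat_lit 187, nat_lit 192, nat_lit 197, nat_lit 198, nat_lit 192, nat_lit 185, nat_lit 192], [nat_lit 193, nat_lit 198, nat_lit 193, nat_lit 193, nat_lit 187, nat_lit 193, nat_lit 193, nat_lit 193], [nat_lit 191, nat_lit 199, nat_lit 194, nat_lit 188, nat_lit 194, nat_lit 189, nat_lit 200, nat_lit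 194], [nat_lit 192, nat_lit 195, nat_lit 195, nat_lit 200, nat_lit 201, nat_lit 195, nat_lit 188, nat_lit 195], [nat_lit 196, nat_lit 189, nat_lit 190, nat_lit 196, nat_lit 196, nat_lit 199, nat_lit 196, nat_lit 196], [nat_lit 200, nat_lit 197, nat_lit 197, nat_lit 192, nat_lit 202, nat_lit 197, nat_lit 191, nat_lit 203], [nat_lit 201, nat_lit 193, nat_lit 198, nat_lit 202, nat_lit 192, nat_lit 198, nat_lit 198, nat_lit 198], [nat_lit 199, nat_lit 194, nat_lit 199, nat_lit 199, nat_lit 199, nat_lit 196, nat_lit 204, nat_lit 199], [nat_lit 197, nat_lit 204, nat_lit 200, nat_lit 195, nat_lit 205, nat_lit 200, nat_lit 194, nat_lit 206], [nat_lit 198, nat_lit 201, nat_lit 201, nat_lit 205, nat_lit 195, nat_lit 201, nat_lit 201, nat_lit 201], [nat_lit 205, nat_lit 202, nat_lit 202, nat_lit 198, nat_lit 197, nat_lit 202, nat_lit 202, nat_lit 207], [nat_lit 206, nat_lit 203, nat_lit 203, nat_lit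 203, nat_lit 207, nat_lit 203, nat_lit 203, nat_lit 197], [nat_lit 204, nat_lit 200, nat_lit 204, nat_lit 204, nat_lit 208, nat_lit 204, nat_lit 199, nat_lit 209], [nat_lit 202, nat_lit 208, nat_lit 205, nat_lit 201, nat_lit 200, nat_lit 205, nat_lit 205, nat_lit 210], [nat_lit 203, nat_lit 209, nat_lit 206, nat_lit 206, nat_lit 210, nat_lit 206, nat_lit 206, nat_lit 200], [nat_lit 210, nat_lit 207, nat_lit 207, nat_lit 207, nat_lit 203, nat_lit 207, nat_lit 211, nat_lit 202], [nat_lit 208, nat_lit 205, nat_lit 208, nat_lit 208, nat_lit 204, nat_lit 208, nat_lit 208, nat_lit 212], [nat_lit 209, nat_lit 206, nat_lit 209, nat_lit 213, nat_lit 212, nat_lit 209, nat_lit 209, nat_lit 204], [nat_lit 207, nat_lit 212, nat_lit 210, nat_lit 210, nat_lit 206, nat_lit 210, nat_lit 214, nat_lit 205], [nat_lit 214, nat_lit 211, nat_lit 211, nat_lit 211, nat_lit 211, nat_lit 215, nat_lit 207, nat_lit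 211], [nat_lit 212, nat_lit 210, nat_lit 212, nat_lit 216, nat_lit 209, nat_lit 212, nat_lit 217, nat_lit 208], [nat_lit 213, nat_lit 213, nat_lit 213, nat_lit 209, nat_lit 216, nat_lit 213, nat_lit 213, nat_lit 213], [nat_lit 211, nat_lit 217, nat_lit 214, nat_lit 214, nat_lit 214, nat_lit 218, nat_lit 210, nat_lit 214], [nat_lit 218, nat_lit 215, nat_lit 219, nat_lit 215, nat_lit 215, nat_lit 211, nat_lit 215, nat_lit 215], [nat_lit 216, nat_lit 216, nat_lit 216, nat_lit 212, nat_lit 213, nat_lit 216, nat_lit 220, nat_lit 216], [nat_lit 217, nat_lit 214, nat_lit 217, nat_lit 220, nat_lit 217, nat_lit 221, nat_lit 212, nat_lit 217], [nat_lit 215, nat_lit 221, nat_lit 222, nat_lit 218, nat_lit 218, nat_lit 214, nat_lit 218, nat_lit 218], [nat_lit 222, nat_lit 219, nat_lit 215, nat_lit 219, nat_lit 219, nat_lit 219, nat_lit 219, nat_lit 219], [nat_lit 220, nat_lit 220, nat_lit 220, nat_lit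 217, nat_lit 220, nat_lit 223, nat_lit 216, nat_lit 224], [nat_lit 221, nat_lit 218, nat_lit 225, nat_lit 223, nat_lit 221, nat_lit 217, nat_lit 221, nat_lit 221], [nat_lit 219, nat_lit 225, nat_lit 218, nat_lit 222, nat_lit 222, nat_lit 222, nat_lit 222, nat_lit 222], [nat_lit 223, nat_lit 223, nat_lit 226, nat_lit 221, nat_lit 223, nat_lit 220, nat_lit 223, nat_lit 227], [nat_lit 224, nat_lit 224, nat_lit 224, nat_lit 224, nat_lit 224, nat_lit 227, nat_lit 224, nat_lit 220], [nat_lit 225, nat_lit 222, nat_lit 221, nat_lit 226, nat_lit 225, nat_lit 225, nat_lit 225, nat_lit 225], [nat_lit 226, nat_lit 226, nat_lit 223, nat_lit 225, nat_lit 226, nat_lit 226, nat_lit 226, nat_lit 228], [nat_lit 227, nat_lit 227, nat_lit 228, nat_lit 227, nat_lit 227, nat_lit 224, nat_lit 229, nat_lit 223], [nat_lit 228, nat_lit 228, nat_lit 227, nat_lit 228, nat_lit 228, nat_lit 228, nat_lit 230, nat_lit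 226], [nat_lit 229, nat_lit 229, nat_lit 230, nat_lit 229, nat_lit 231, nat_lit 229, nat_lit 227, nat_lit 229], [nat_lit 230, nat_lit 230, nat_lit 229, nat_lit 230, nat_lit 232, nat_lit 233, nat_lit 228, nat_lit 230], [nat_lit 231, nat_lit 231, nat_lit 232, nat_lit 231, nat_lit 229, nat_lit 231, nat_lit 231, nat_lit 231], [nat_lit 232, nat_lit 232, nat_lit 231, nat_lit 232, nat_lit 230, nat_lit 234, nat_lit 232, nat_lit 232], [nat_lit 233, nat_lit 233, nat_lit 233, nat_lit 233, nat_lit 234, nat_lit 230, nat_lit 233, nat_lit 233], [nat_lit 234, nat_lit 234, nat_lit 234, nat_lit 234, nat_lit 233, nat_lit 232, nat_lit 235, nat_lit 234], [nat_lit 235, nat_lit 235, nat_lit 235, nat_lit 235, nat_lit 235, nat_lit 235, nat_lit 234, nat_lit 236], [nat_lit 236, nat_lit 236, nat_lit 236, nat_lit 237, nat_lit 236, nat_lit 236, nat_lit 236, nat_lit 235], [nat_lit 237, nat_lit 238, nat_lit 237, nat_lit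 236, nat_lit 237, nat_lit 237, nat_lit 237, nat_lit 237], [nat_lit 239, nat_lit 237, nat_lit 238, nat_lit 238, nat_lit 238, nat_lit 238, nat_lit 238, nat_lit 238], [nat_lit 238, nat_lit 239, nat_lit 239, nat_lit 239, nat_lit 239, nat_lit 239, nat_lit 239, nat_lit 239]]
  deg := [nat_lit 0, nat_lit 1, nat_lit 2, nat_lit 3, nat_lit 4, nat_lit 5, nat_lit 6, nat_lit 6, nat_lit 7, nat_lit 7, nat_lit 8, nat_lit 8, nat_lit 9, nat_lit 9, nat_lit 10, nat_lit 10, nat_lit 10, nat_lit 11, nat_lit 11, nat_lit 11, nat_lit 12, nat_lit 12, nat_lit 12, nat_lit 12, nat_lit 13, nat_lit 13, nat_lit 13, nat_lit 13, nat_lit 14, nat_lit 14, nat_lit 14, nat_lit 14, nat_lit 15, nat_lit 15, nat_lit 15, nat_lit 15, nat_lit 16, nat_lit 16, nat_lit 16, nat_lit 16, nat_lit 16, nat_lit 17, nat_lit 17, nat_lit 17, nat_lit 17, nat_lit 17, nat_lit 18, nat_lit 18, nat_lit 18, nat_lit 18, nat_lit 18, nat_lit 18, nat_lit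 19, nat_lit 19, nat_lit 19, nat_lit 19, nat_lit 19, nat_lit 19, nat_lit 20, nat_lit 20, nat_lit 20, nat_lit 20, nat_lit 20, nat_lit 20, nat_lit 21, nat_lit 21, nat_lit 21, nat_lit 21, nat_lit 21, nat_lit 21, nat_lit 22, nat_lit 22, nat_lit 22, nat_lit 22, nat_lit 22, nat_lit 22, nat_lit 22, nat_lit 23, nat_lit 23, nat_lit 23, nat_lit 23, nat_lit 23, nat_lit 23, nat_lit 23, nat_lit 24, nat_lit 24, nat_lit 24, nat_lit 24, nat_lit 24, nat_lit 24, nat_lit 24, nat_lit 25, nat_lit 25, nat_lit 25, nat_lit 25, nat_lit 25, nat_lit 25, nat_lit 25, nat_lit 26, nat_lit 26, nat_lit 26, nat_lit 26, nat_lit 26, nat_lit 26, nat_lit 26, nat_lit 27, nat_lit 27, nat_lit 27, nat_lit 27, nat_lit 27, nat_lit 27, nat_lit 27, nat_lit 28, nat_lit 28, nat_lit 28, nat_lit 28, nat_lit 28, nat_lit 28, nat_lit 28, nat_lit 28, nat_lit 29, nat_lit 29, nat_lit 29, nat_lit 29, nat_lit 29, nat_lit 29, nat_lit 29, nat_lit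 29, nat_lit 30, nat_lit 30, nat_lit 30, nat_lit 30, nat_lit 30, nat_lit 30, nat_lit 30, nat_lit 31, nat_lit 31, nat_lit 31, nat_lit 31, nat_lit 31, nat_lit 31, nat_lit 31, nat_lit 32, nat_lit 32, nat_lit 32, nat_lit 32, nat_lit 32, nat_lit 32, nat_lit 32, nat_lit 33, nat_lit 33, nat_lit 33, nat_lit 33, nat_lit 33, nat_lit 33, nat_lit 33, nat_lit 34, nat_lit 34, nat_lit 34, nat_lit 34, nat_lit 34, nat_lit 34, nat_lit 34, nat_lit 35, nat_lit 35, nat_lit 35, nat_lit 35, nat_lit 35, nat_lit 35, nat_lit 35, nat_lit 36, nat_lit 36, nat_lit 36, nat_lit 36, nat_lit 36, nat_lit 36, nat_lit 37, nat_lit 37, nat_lit 37, nat_lit 37, nat_lit 37, nat_lit 37, nat_lit 38, nat_lit 38, nat_lit 38, nat_lit 38, nat_lit 38, nat_lit 38, nat_lit 39, nat_lit 39, nat_lit 39, nat_lit 39, nat_lit 39, nat_lit 39, nat_lit 40, nat_lit 40, nat_lit 40, nat_lit 40, nat_lit 40, nat_lit 41, nat_lit 41, nat_lit 41, nat_lit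 41, nat_lit 41, nat_lit 42, nat_lit 42, nat_lit 42, nat_lit 42, nat_lit 43, nat_lit 43, nat_lit 43, nat_lit 43, nat_lit 44, nat_lit 44, nat_lit 44, nat_lit 44, nat_lit 45, nat_lit 45, nat_lit 45, nat_lit 45, nat_lit 46, nat_lit 46, nat_lit 46, nat_lit 47, nat_lit 47, nat_lit 47, nat_lit 48, nat_lit 48, nat_lit 49, nat_lit 49, nat_lit 50, nat_lit 50, nat_lit 51, nat_lit 51, nat_lit 52, nat_lit 53, nat_lit 54, nat_lit 55, nat_lit 56, nat_lit 57]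

/-- Orbit level 1. -/
def e8Level1 : Level where
  k := 6
  pts := [[.ofNat (nat_lit 0), .ofNat (nat_lit 0), .ofNat (nat_lit 0), .ofNat (nat_lit 0), .ofNat (nat_lit 0), .ofNat (nat_lit 0), .ofNat (nat_lit 1), .ofNat (nat_lit 0)], [.ofNat (nat_lit 0), .ofNat (nat_lit 0), .ofNat (nat_lit 0), .ofNat (nat_lit 0), .ofNat (nat_lit 0), .ofNat (nat_lit 1), .negSucc (nat_lit 0), .ofNat (nat_lit 1)], [.ofNat (nat_lit 0), .ofNat (nat_lit 0), .ofNat (nat_lit 0), .ofNat (nat_lit 0), .ofNat (nat_lit 1), .negSucc (nat_lit 0), .ofNat (nat_lit 0), .ofNat (nat_lit 1)], [.ofNat (nat_lit 0), .ofNat (nat_lit 0), .ofNat (nat_lit 0), .ofNat (nat_lit 1), .negSucc (nat_lit 0), .ofNat (nat_lit 0), .ofNat (nat_lit 0), .ofNat (nat_lit 1)], [.ofNat (nat_lit 0), .ofNat (nat_lit 1), .ofNat (nat_lit 1), .negSucc (nat_lit 0), .ofNat (nat_lit 0), .ofNat (nat_lit 0), .ofNat (nat_lit 0), .ofNat (nat_lit 1)], [.ofNat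 (nat_lit 0), .negSucc (nat_lit 0), .ofNat (nat_lit 1), .ofNat (nat_lit 0), .ofNat (nat_lit 0), .ofNat (nat_lit 0), .ofNat (nat_lit 0), .ofNat (nat_lit 1)], [.ofNat (nat_lit 1), .ofNat (nat_lit 1), .negSucc (nat_lit 0), .ofNat (nat_lit 0), .ofNat (nat_lit 0), .ofNat (nat_lit 0), .ofNat (nat_lit 0), .ofNat (nat_lit 1)], [.ofNat (nat_lit 1), .negSucc (nat_lit 0), .negSucc (nat_lit 0), .ofNat (nat_lit 1), .ofNat (nat_lit 0), .ofNat (nat_lit 0), .ofNat (nat_lit 0), .ofNat (nat_lit 1)], [.negSucc (nat_lit 0), .ofNat (nat_lit 1), .ofNat (nat_lit 0), .ofNat (nat_lit 0), .ofNat (nat_lit 0), .ofNat (nat_lit 0), .ofNat (nat_lit 0), .ofNat (nat_lit 1)], [.negSucc (nat_lit 0), .negSucc (nat_lit 0), .ofNat (nat_lit 0), .ofNat (nat_lit 1), .ofNat (nat_lit 0), .ofNat (nat_lit 0), .ofNat (nat_lit 0), .ofNat (nat_lit 1)], [.ofNat (nat_lit 1), .ofNat (nat_lit 0), .ofNat (nat_lit 0), .negSucc (nat_lit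 0), .ofNat (nat_lit 1), .ofNat (nat_lit 0), .ofNat (nat_lit 0), .ofNat (nat_lit 1)], [.negSucc (nat_lit 0), .ofNat (nat_lit 0), .ofNat (nat_lit 1), .negSucc (nat_lit 0), .ofNat (nat_lit 1), .ofNat (nat_lit 0), .ofNat (nat_lit 0), .ofNat (nat_lit 1)], [.ofNat (nat_lit 1), .ofNat (nat_lit 0), .ofNat (nat_lit 0), .ofNat (nat_lit 0), .negSucc (nat_lit 0), .ofNat (nat_lit 1), .ofNat (nat_lit 0), .ofNat (nat_lit 1)], [.ofNat (nat_lit 0), .ofNat (nat_lit 0), .negSucc (nat_lit 0), .ofNat (nat_lit 0), .ofNat (nat_lit 1), .ofNat (nat_lit 0), .ofNat (nat_lit 0), .ofNat (nat_lit 1)], [.negSucc (nat_lit 0), .ofNat (nat_lit 0), .ofNat (nat_lit 1), .ofNat (nat_lit 0), .negSucc (nat_lit 0), .ofNat (nat_lit 1), .ofNat (nat_lit 0), .ofNat (nat_lit 1)], [.ofNat (nat_lit 1), .ofNat (nat_lit 0), .ofNat (nat_lit 0), .ofNat (nat_lit 0), .ofNat (nat_lit 0), .negSucc (nat_lit 0), .ofNat (nat_lit 1), .ofNat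 (nat_lit 1)], [.ofNat (nat_lit 0), .ofNat (nat_lit 0), .negSucc (nat_lit 0), .ofNat (nat_lit 1), .negSucc (nat_lit 0), .ofNat (nat_lit 1), .ofNat (nat_lit 0), .ofNat (nat_lit 1)], [.negSucc (nat_lit 0), .ofNat (nat_lit 0), .ofNat (nat_lit 1), .ofNat (nat_lit 0), .ofNat (nat_lit 0), .negSucc (nat_lit 0), .ofNat (nat_lit 1), .ofNat (nat_lit 1)], [.ofNat (nat_lit 1), .ofNat (nat_lit 0), .ofNat (nat_lit 0), .ofNat (nat_lit 0), .ofNat (nat_lit 0), .ofNat (nat_lit 0), .negSucc (nat_lit 0), .ofNat (nat_lit 2)], [.ofNat (nat_lit 0), .ofNat (nat_lit 0), .negSucc (nat_lit 0), .ofNat (nat_lit 1), .ofNat (nat_lit 0), .negSucc (nat_lit 0), .ofNat (nat_lit 1), .ofNat (nat_lit 1)], [.ofNat (nat_lit 0), .ofNat (nat_lit 1), .ofNat (nat_lit 0), .negSucc (nat_lit 0), .ofNat (nat_lit 0), .ofNat (nat_lit 1), .ofNat (nat_lit 0), .ofNat (nat_lit 1)], [.negSucc (nat_lit 0), .ofNat (nat_lit 0), .ofNat (nat_lit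 1), .ofNat (nat_lit 0), .ofNat (nat_lit 0), .ofNat (nat_lit 0), .negSucc (nat_lit 0), .ofNat (nat_lit 2)], [.ofNat (nat_lit 0), .ofNat (nat_lit 0), .negSucc (nat_lit 0), .ofNat (nat_lit 1), .ofNat (nat_lit 0), .ofNat (nat_lit 0), .negSucc (nat_lit 0), .ofNat (nat_lit 2)], [.ofNat (nat_lit 0), .ofNat (nat_lit 1), .ofNat (nat_lit 0), .negSucc (nat_lit 0), .ofNat (nat_lit 1), .negSucc (nat_lit 0), .ofNat (nat_lit 1), .ofNat (nat_lit 1)], [.ofNat (nat_lit 0), .negSucc (nat_lit 0), .ofNat (nat_lit 0), .ofNat (nat_lit 0), .ofNat (nat_lit 0), .ofNat (nat_lit 1), .ofNat (nat_lit 0), .ofNat (nat_lit 1)], [.ofNat (nat_lit 0), .ofNat (nat_lit 1), .ofNat (nat_lit 0), .negSucc (nat_lit 0), .ofNat (nat_lit 1), .ofNat (nat_lit 0), .negSucc (nat_lit 0), .ofNat (nat_lit 2)], [.ofNat (nat_lit 0), .negSucc (nat_lit 0), .ofNat (nat_lit 0), .ofNat (nat_lit 0), .ofNat (nat_lit 1), .negSucc (nat_lit 0), .ofNat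 (nat_lit 1), .ofNat (nat_lit 1)], [.ofNat (nat_lit 0), .ofNat (nat_lit 1), .ofNat (nat_lit 0), .ofNat (nat_lit 0), .negSucc (nat_lit 0), .ofNat (nat_lit 0), .ofNat (nat_lit 1), .ofNat (nat_lit 1)], [.ofNat (nat_lit 0), .negSucc (nat_lit 0), .ofNat (nat_lit 0), .ofNat (nat_lit 0), .ofNat (nat_lit 1), .ofNat (nat_lit 0), .negSucc (nat_lit 0), .ofNat (nat_lit 2)], [.ofNat (nat_lit 0), .ofNat (nat_lit 1), .ofNat (nat_lit 0), .ofNat (nat_lit 0), .negSucc (nat_lit 0), .ofNat (nat_lit 1), .negSucc (nat_lit 0), .ofNat (nat_lit 2)], [.ofNat (nat_lit 0), .negSucc (nat_lit 0), .ofNat (nat_lit 0), .ofNat (nat_lit 1), .negSucc (nat_lit 0), .ofNat (nat_lit 0), .ofNat (nat_lit 1), .ofNat (nat_lit 1)], [.ofNat (nat_lit 0), .negSucc (nat_lit 0), .ofNat (nat_lit 0), .ofNat (nat_lit 1), .negSucc (nat_lit 0), .ofNat (nat_lit 1), .negSucc (nat_lit 0), .ofNat (nat_lit 2)], [.ofNat (nat_lit 0), .ofNat (nat_lit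 1), .ofNat (nat_lit 0), .ofNat (nat_lit 0), .ofNat (nat_lit 0), .negSucc (nat_lit 0), .ofNat (nat_lit 0), .ofNat (nat_lit 2)], [.ofNat (nat_lit 0), .ofNat (nat_lit 0), .ofNat (nat_lit 1), .negSucc (nat_lit 0), .ofNat (nat_lit 0), .ofNat (nat_lit 0), .ofNat (nat_lit 1), .ofNat (nat_lit 1)], [.ofNat (nat_lit 0), .negSucc (nat_lit 0), .ofNat (nat_lit 0), .ofNat (nat_lit 1), .ofNat (nat_lit 0), .negSucc (nat_lit 0), .ofNat (nat_lit 0), .ofNat (nat_lit 2)], [.ofNat (nat_lit 0), .ofNat (nat_lit 0), .ofNat (nat_lit 1), .negSucc (nat_lit 0), .ofNat (nat_lit 0), .ofNat (nat_lit 1), .negSucc (nat_lit 0), .ofNat (nat_lit 2)], [.ofNat (nat_lit 1), .ofNat (nat_lit 0), .negSucc (nat_lit 0), .ofNat (nat_lit 0), .ofNat (nat_lit 0), .ofNat (nat_lit 0), .ofNat (nat_lit 1), .ofNat (nat_lit 1)], [.ofNat (nat_lit 0), .ofNat (nat_lit 0), .ofNat (nat_lit 1), .negSucc (nat_lit 0), .ofNat (nat_lit 1), .negSucc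 (nat_lit 0), .ofNat (nat_lit 0), .ofNat (nat_lit 2)], [.ofNat (nat_lit 1), .ofNat (nat_lit 0), .negSucc (nat_lit 0), .ofNat (nat_lit 0), .ofNat (nat_lit 0), .ofNat (nat_lit 1), .negSucc (nat_lit 0), .ofNat (nat_lit 2)], [.negSucc (nat_lit 0), .ofNat (nat_lit 0), .ofNat (nat_lit 0), .ofNat (nat_lit 0), .ofNat (nat_lit 0), .ofNat (nat_lit 0), .ofNat (nat_lit 1), .ofNat (nat_lit 1)], [.ofNat (nat_lit 1), .ofNat (nat_lit 0), .negSucc (nat_lit 0), .ofNat (nat_lit 0), .ofNat (nat_lit 1), .negSucc (nat_lit 0), .ofNat (nat_lit 0), .ofNat (nat_lit 2)], [.ofNat (nat_lit 0), .ofNat (nat_lit 0), .ofNat (nat_lit 1), .ofNat (nat_lit 0), .negSucc (nat_lit 0), .ofNat (nat_lit 0), .ofNat (nat_lit 0), .ofNat (nat_lit 2)], [.negSucc (nat_lit 0), .ofNat (nat_lit 0), .ofNat (nat_lit 0), .ofNat (nat_lit 0), .ofNat (nat_lit 0), .ofNat (nat_lit 1), .negSucc (nat_lit 0), .ofNat (nat_lit 2)], [.negSucc (nat_lit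 0), .ofNat (nat_lit 0), .ofNat (nat_lit 0), .ofNat (nat_lit 0), .ofNat (nat_lit 1), .negSucc (nat_lit 0), .ofNat (nat_lit 0), .ofNat (nat_lit 2)], [.ofNat (nat_lit 1), .ofNat (nat_lit 0), .negSucc (nat_lit 0), .ofNat (nat_lit 1), .negSucc (nat_lit 0), .ofNat (nat_lit 0), .ofNat (nat_lit 0), .ofNat (nat_lit 2)], [.negSucc (nat_lit 0), .ofNat (nat_lit 0), .ofNat (nat_lit 0), .ofNat (nat_lit 1), .negSucc (nat_lit 0), .ofNat (nat_lit 0), .ofNat (nat_lit 0), .ofNat (nat_lit 2)], [.ofNat (nat_lit 1), .ofNat (nat_lit 1), .ofNat (nat_lit 0), .negSucc (nat_lit 0), .ofNat (nat_lit 0), .ofNat (nat_lit 0), .ofNat (nat_lit 0), .ofNat (nat_lit 2)], [.negSucc (nat_lit 0), .ofNat (nat_lit 1), .ofNat (nat_lit 1), .negSucc (nat_lit 0), .ofNat (nat_lit 0), .ofNat (nat_lit 0), .ofNat (nat_lit 0), .ofNat (nat_lit 2)], [.ofNat (nat_lit 1), .negSucc (nat_lit 0), .ofNat (nat_lit 0), .ofNat (nat_lit 0), .ofNat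 (nat_lit 0), .ofNat (nat_lit 0), .ofNat (nat_lit 0), .ofNat (nat_lit 2)], [.negSucc (nat_lit 0), .negSucc (nat_lit 0), .ofNat (nat_lit 1), .ofNat (nat_lit 0), .ofNat (nat_lit 0), .ofNat (nat_lit 0), .ofNat (nat_lit 0), .ofNat (nat_lit 2)], [.ofNat (nat_lit 0), .ofNat (nat_lit 1), .negSucc (nat_lit 0), .ofNat (nat_lit 0), .ofNat (nat_lit 0), .ofNat (nat_lit 0), .ofNat (nat_lit 0), .ofNat (nat_lit 2)], [.ofNat (nat_lit 0), .negSucc (nat_lit 0), .negSucc (nat_lit 0), .ofNat (nat_lit 1), .ofNat (nat_lit 0), .ofNat (nat_lit 0), .ofNat (nat_lit 0), .ofNat (nat_lit 2)], [.ofNat (nat_lit 0), .ofNat (nat_lit 0), .ofNat (nat_lit 0), .negSucc (nat_lit 0), .ofNat (nat_lit 1), .ofNat (nat_lit 0), .ofNat (nat_lit 0), .ofNat (nat_lit 2)], [.ofNat (nat_lit 0), .ofNat (nat_lit 0), .ofNat (nat_lit 0), .ofNat (nat_lit 0), .negSucc (nat_lit 0), .ofNat (nat_lit 1), .ofNat (nat_lit 0), .ofNat (nat_lit 2)],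 [.ofNat (nat_lit 0), .ofNat (nat_lit 0), .ofNat (nat_lit 0), .ofNat (nat_lit 0), .ofNat (nat_lit 0), .negSucc (nat_lit 0), .ofNat (nat_lit 1), .ofNat (nat_lit 2)], [.ofNat (nat_lit 0), .ofNat (nat_lit 0), .ofNat (nat_lit 0), .ofNat (nat_lit 0), .ofNat (nat_lit 0), .ofNat (nat_lit 0), .negSucc (nat_lit 0), .ofNat (nat_lit 3)]]
  par := [(nat_lit 0, nat_lit 6), (nat_lit 1, nat_lit 5), (nat_lit 2, nat_lit 4), (nat_lit 3, nat_lit 3), (nat_lit 4, nat_lit 1), (nat_lit 4, nat_lit 2), (nat_lit 5, nat_lit 2), (nat_lit 6, nat_lit 0), (nat_lit 7, nat_lit 0), (nat_lit 7, nat_lit 3), (nat_lit 9, nat_lit 3), (nat_lit 10, nat_lit 4), (nat_lit 11, nat_lit 2), (nat_lit 11, nat_lit 4), (nat_lit 12, nat_lit 5), (nat_lit 13, nat_lit 4), (nat_lit 14, nat_lit 5), (nat_lit 15, nat_lit 6), (nat_lit 16, nat_lit 5), (nat_lit 16, nat_lit 3), (nat_lit 17, nat_lit 6), (nat_lit 19, nat_lit 6), (nat_lit 19, nat_lit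 3), (nat_lit 20, nat_lit 1), (nat_lit 22, nat_lit 3), (nat_lit 23, nat_lit 1), (nat_lit 23, nat_lit 4), (nat_lit 25, nat_lit 1), (nat_lit 25, nat_lit 4), (nat_lit 26, nat_lit 4), (nat_lit 28, nat_lit 4), (nat_lit 29, nat_lit 5), (nat_lit 30, nat_lit 3), (nat_lit 31, nat_lit 5), (nat_lit 31, nat_lit 3), (nat_lit 33, nat_lit 2), (nat_lit 34, nat_lit 3), (nat_lit 35, nat_lit 2), (nat_lit 36, nat_lit 0), (nat_lit 37, nat_lit 2), (nat_lit 37, nat_lit 4), (nat_lit 38, nat_lit 0), (nat_lit 40, nat_lit 0), (nat_lit 40, nat_lit 4), (nat_lit 43, nat_lit 4), (nat_lit 44, nat_lit 3), (nat_lit 45, nat_lit 3), (nat_lit 46, nat_lit 1), (nat_lit 47, nat_lit 1), (nat_lit 47, nat_lit 2), (nat_lit 49, nat_lit 2), (nat_lit 51, nat_lit 3), (nat_lit 52, nat_lit 4), (nat_lit 53, nat_lit 5), (nat_lit 54, nat_lit 6)]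
  succ := [[nat_lit 1, nat_lit 0, nat_lit 0, nat_lit 0, nat_lit 0, nat_lit 0, nat_lit 0], [nat_lit 0, nat_lit 1, nat_lit 2, nat_lit 1, nat_lit 1, nat_lit 1, nat_lit 1], [nat_lit 2, nat_lit 2, nat_lit 1, nat_lit 2, nat_lit 2, nat_lit 2, nat_lit 3], [nat_lit 3, nat_lit 3, nat_lit 3, nat_lit 3, nat_lit 3, nat_lit 4, nat_lit 2], [nat_lit 4, nat_lit 4, nat_lit 4, nat_lit 5, nat_lit 6, nat_lit 3, nat_lit 4], [nat_lit 5, nat_lit 5, nat_lit 5, nat_lit 4, nat_lit 7, nat_lit 5, nat_lit 5], [nat_lit 6, nat_lit 8, nat_lit 6, nat_lit 7, nat_lit 4, nat_lit 6, nat_lit 6], [nat_lit 7, nat_lit 9, nat_lit 7, nat_lit 6, nat_lit 5, nat_lit 10, nat_lit 7], [nat_lit 8, nat_lit 6, nat_lit 8, nat_lit 9, nat_lit 8, nat_lit 8, nat_lit 8], [nat_lit 9, nat_lit 7, nat_lit 9, nat_lit 8, nat_lit 9, nat_lit 11, nat_lit 9], [nat_lit 10, nat_lit 11, nat_lit 10, nat_lit 10, nat_lit 10, nat_lit 7, nat_lit 12], [nat_lit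 11, nat_lit 10, nat_lit 11, nat_lit 11, nat_lit 13, nat_lit 9, nat_lit 14], [nat_lit 12, nat_lit 14, nat_lit 15, nat_lit 12, nat_lit 12, nat_lit 12, nat_lit 10], [nat_lit 13, nat_lit 13, nat_lit 13, nat_lit 13, nat_lit 11, nat_lit 13, nat_lit 16], [nat_lit 14, nat_lit 12, nat_lit 17, nat_lit 14, nat_lit 16, nat_lit 14, nat_lit 11], [nat_lit 18, nat_lit 17, nat_lit 12, nat_lit 15, nat_lit 15, nat_lit 15, nat_lit 15], [nat_lit 16, nat_lit 16, nat_lit 19, nat_lit 16, nat_lit 14, nat_lit 20, nat_lit 13], [nat_lit 21, nat_lit 15, nat_lit 14, nat_lit 17, nat_lit 19, nat_lit 17, nat_lit 17], [nat_lit 15, nat_lit 21, nat_lit 18, nat_lit 18, nat_lit 18, nat_lit 18, nat_lit 18], [nat_lit 22, nat_lit 19, nat_lit 16, nat_lit 19, nat_lit 17, nat_lit 23, nat_lit 19], [nat_lit 20, nat_lit 20, nat_lit 23, nat_lit 24, nat_lit 20, nat_lit 16, nat_lit 20], [nat_lit 17, nat_lit 18, nat_lit 21, nat_lit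 21, nat_lit 22, nat_lit 21, nat_lit 21], [nat_lit 19, nat_lit 22, nat_lit 22, nat_lit 22, nat_lit 21, nat_lit 25, nat_lit 22], [nat_lit 25, nat_lit 23, nat_lit 20, nat_lit 26, nat_lit 23, nat_lit 19, nat_lit 27], [nat_lit 24, nat_lit 24, nat_lit 26, nat_lit 20, nat_lit 24, nat_lit 24, nat_lit 24], [nat_lit 23, nat_lit 25, nat_lit 25, nat_lit 28, nat_lit 25, nat_lit 22, nat_lit 29], [nat_lit 28, nat_lit 26, nat_lit 24, nat_lit 23, nat_lit 26, nat_lit 26, nat_lit 30], [nat_lit 29, nat_lit 27, nat_lit 27, nat_lit 30, nat_lit 27, nat_lit 27, nat_lit 23], [nat_lit 26, nat_lit 28, nat_lit 28, nat_lit 25, nat_lit 28, nat_lit 28, nat_lit 31], [nat_lit 27, nat_lit 29, nat_lit 32, nat_lit 31, nat_lit 29, nat_lit 29, nat_lit 25], [nat_lit 31, nat_lit 30, nat_lit 30, nat_lit 27, nat_lit 30, nat_lit 33, nat_lit 26], [nat_lit 30, nat_lit 31, nat_lit 34, nat_lit 29, nat_lit 31, nat_lit 35, nat_lit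 28], [nat_lit 32, nat_lit 32, nat_lit 29, nat_lit 34, nat_lit 32, nat_lit 32, nat_lit 32], [nat_lit 35, nat_lit 33, nat_lit 33, nat_lit 33, nat_lit 36, nat_lit 30, nat_lit 33], [nat_lit 34, nat_lit 34, nat_lit 31, nat_lit 32, nat_lit 34, nat_lit 37, nat_lit 34], [nat_lit 33, nat_lit 35, nat_lit 37, nat_lit 35, nat_lit 38, nat_lit 31, nat_lit 35], [nat_lit 38, nat_lit 39, nat_lit 36, nat_lit 36, nat_lit 33, nat_lit 36, nat_lit 36], [nat_lit 37, nat_lit 37, nat_lit 35, nat_lit 37, nat_lit 40, nat_lit 34, nat_lit 41], [nat_lit 36, nat_lit 42, nat_lit 40, nat_lit 38, nat_lit 35, nat_lit 38, nat_lit 38], [nat_lit 42, nat_lit 36, nat_lit 39, nat_lit 39, nat_lit 39, nat_lit 39, nat_lit 39], [nat_lit 40, nat_lit 43, nat_lit 38, nat_lit 40, nat_lit 37, nat_lit 40, nat_lit 44], [nat_lit 41, nat_lit 41, nat_lit 41, nat_lit 41, nat_lit 44, nat_lit 41, nat_lit 37], [nat_lit 39, nat_lit 38, nat_lit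 43, nat_lit 42, nat_lit 42, nat_lit 42, nat_lit 42], [nat_lit 43, nat_lit 40, nat_lit 42, nat_lit 43, nat_lit 43, nat_lit 43, nat_lit 45], [nat_lit 44, nat_lit 45, nat_lit 44, nat_lit 44, nat_lit 41, nat_lit 46, nat_lit 40], [nat_lit 45, nat_lit 44, nat_lit 45, nat_lit 45, nat_lit 45, nat_lit 47, nat_lit 43], [nat_lit 46, nat_lit 47, nat_lit 46, nat_lit 48, nat_lit 46, nat_lit 44, nat_lit 46], [nat_lit 47, nat_lit 46, nat_lit 47, nat_lit 49, nat_lit 50, nat_lit 45, nat_lit 47], [nat_lit 48, nat_lit 49, nat_lit 48, nat_lit 46, nat_lit 48, nat_lit 48, nat_lit 48], [nat_lit 49, nat_lit 48, nat_lit 49, nat_lit 47, nat_lit 51, nat_lit 49, nat_lit 49], [nat_lit 50, nat_lit 50, nat_lit 50, nat_lit 51, nat_lit 47, nat_lit 50, nat_lit 50], [nat_lit 51, nat_lit 51, nat_lit 51, nat_lit 50, nat_lit 49, nat_lit 52, nat_lit 51], [nat_lit 52, nat_lit 52, nat_lit 52, nat_lit 52, nat_lit 52, nat_lit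 51, nat_lit 53], [nat_lit 53, nat_lit 53, nat_lit 54, nat_lit 53, nat_lit 53, nat_lit 53, nat_lit 52], [nat_lit 55, nat_lit 54, nat_lit 53, nat_lit 54, nat_lit 54, nat_lit 54, nat_lit 54], [nat_lit 54, nat_lit 55, nat_lit 55, nat_lit 55, nat_lit 55, nat_lit 55, nat_lit 55]]
  deg := [nat_lit 0, nat_lit 1, nat_lit 2, nat_lit 3, nat_lit 4, nat_lit 5, nat_lit 5, nat_lit 6, nat_lit 6, nat_lit 7, nat_lit 7, nat_lit 8, nat_lit 8, nat_lit 9, nat_lit 9, nat_lit 9, nat_lit 10, nat_lit 10, nat_lit 10, nat_lit 11, nat_lit 11, nat_lit 11, nat_lit 12, nat_lit 12, nat_lit 12, nat_lit 13, nat_lit 13, nat_lit 13, nat_lit 14, nat_lit 14, nat_lit 14, nat_lit 15, nat_lit 15, nat_lit 15, nat_lit 16, nat_lit 16, nat_lit 16, nat_lit 17, nat_lit 17, nat_lit 17, nat_lit 18, nat_lit 18, nat_lit 18, nat_lit 19, nat_lit 19, nat_lit 20, nat_lit 20, nat_lit 21, nat_lit 21, nat_lit 22, nat_lit 22, nat_lit 23, nat_lit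 24, nat_lit 25, nat_lit 26, nat_lit 27]

/-- Orbit level 2. -/
def e8Level2 : Level where
  k := 0
  pts := [[.ofNat (nat_lit 1), .ofNat (nat_lit 0), .ofNat (nat_lit 0), .ofNat (nat_lit 0), .ofNat (nat_lit 0), .ofNat (nat_lit 0), .ofNat (nat_lit 0), .ofNat (nat_lit 0)], [.negSucc (nat_lit 0), .ofNat (nat_lit 0), .ofNat (nat_lit 1), .ofNat (nat_lit 0), .ofNat (nat_lit 0), .ofNat (nat_lit 0), .ofNat (nat_lit 0), .ofNat (nat_lit 0)], [.ofNat (nat_lit 0), .ofNat (nat_lit 0), .negSucc (nat_lit 0), .ofNat (nat_lit 1), .ofNat (nat_lit 0), .ofNat (nat_lit 0), .ofNat (nat_lit 0), .ofNat (nat_lit 0)], [.ofNat (nat_lit 0), .ofNat (nat_lit 1), .ofNat (nat_lit 0), .negSucc (nat_lit 0), .ofNat (nat_lit 1), .ofNat (nat_lit 0), .ofNat (nat_lit 0), .ofNat (nat_lit 0)], [.ofNat (nat_lit 0), .negSucc (nat_lit 0), .ofNat (nat_lit 0), .ofNat (nat_lit 0), .ofNat (nat_lit 1), .ofNat (nat_lit 0), .ofNat (nat_lit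 0), .ofNat (nat_lit 0)], [.ofNat (nat_lit 0), .ofNat (nat_lit 1), .ofNat (nat_lit 0), .ofNat (nat_lit 0), .negSucc (nat_lit 0), .ofNat (nat_lit 1), .ofNat (nat_lit 0), .ofNat (nat_lit 0)], [.ofNat (nat_lit 0), .negSucc (nat_lit 0), .ofNat (nat_lit 0), .ofNat (nat_lit 1), .negSucc (nat_lit 0), .ofNat (nat_lit 1), .ofNat (nat_lit 0), .ofNat (nat_lit 0)], [.ofNat (nat_lit 0), .ofNat (nat_lit 1), .ofNat (nat_lit 0), .ofNat (nat_lit 0), .ofNat (nat_lit 0), .negSucc (nat_lit 0), .ofNat (nat_lit 1), .ofNat (nat_lit 0)], [.ofNat (nat_lit 0), .negSucc (nat_lit 0), .ofNat (nat_lit 0), .ofNat (nat_lit 1), .ofNat (nat_lit 0), .negSucc (nat_lit 0), .ofNat (nat_lit 1), .ofNat (nat_lit 0)], [.ofNat (nat_lit 0), .ofNat (nat_lit 0), .ofNat (nat_lit 1), .negSucc (nat_lit 0), .ofNat (nat_lit 0), .ofNat (nat_lit 1), .ofNat (nat_lit 0), .ofNat (nat_lit 0)], [.ofNat (nat_lit 0), .ofNat (nat_lit 0), .ofNat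 (nat_lit 1), .negSucc (nat_lit 0), .ofNat (nat_lit 1), .negSucc (nat_lit 0), .ofNat (nat_lit 1), .ofNat (nat_lit 0)], [.ofNat (nat_lit 1), .ofNat (nat_lit 0), .negSucc (nat_lit 0), .ofNat (nat_lit 0), .ofNat (nat_lit 0), .ofNat (nat_lit 1), .ofNat (nat_lit 0), .ofNat (nat_lit 0)], [.ofNat (nat_lit 1), .ofNat (nat_lit 0), .negSucc (nat_lit 0), .ofNat (nat_lit 0), .ofNat (nat_lit 1), .negSucc (nat_lit 0), .ofNat (nat_lit 1), .ofNat (nat_lit 0)], [.ofNat (nat_lit 0), .ofNat (nat_lit 0), .ofNat (nat_lit 1), .ofNat (nat_lit 0), .negSucc (nat_lit 0), .ofNat (nat_lit 0), .ofNat (nat_lit 1), .ofNat (nat_lit 0)], [.negSucc (nat_lit 0), .ofNat (nat_lit 0), .ofNat (nat_lit 0), .ofNat (nat_lit 0), .ofNat (nat_lit 0), .ofNat (nat_lit 1), .ofNat (nat_lit 0), .ofNat (nat_lit 0)], [.negSucc (nat_lit 0), .ofNat (nat_lit 0), .ofNat (nat_lit 0), .ofNat (nat_lit 0), .ofNat (nat_lit 1), .negSucc (nat_lit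 0), .ofNat (nat_lit 1), .ofNat (nat_lit 0)], [.ofNat (nat_lit 1), .ofNat (nat_lit 0), .negSucc (nat_lit 0), .ofNat (nat_lit 1), .negSucc (nat_lit 0), .ofNat (nat_lit 0), .ofNat (nat_lit 1), .ofNat (nat_lit 0)], [.negSucc (nat_lit 0), .ofNat (nat_lit 0), .ofNat (nat_lit 0), .ofNat (nat_lit 1), .negSucc (nat_lit 0), .ofNat (nat_lit 0), .ofNat (nat_lit 1), .ofNat (nat_lit 0)], [.ofNat (nat_lit 1), .ofNat (nat_lit 1), .ofNat (nat_lit 0), .negSucc (nat_lit 0), .ofNat (nat_lit 0), .ofNat (nat_lit 0), .ofNat (nat_lit 1), .ofNat (nat_lit 0)], [.negSucc (nat_lit 0), .ofNat (nat_lit 1), .ofNat (nat_lit 1), .negSucc (nat_lit 0), .ofNat (nat_lit 0), .ofNat (nat_lit 0), .ofNat (nat_lit 1), .ofNat (nat_lit 0)], [.ofNat (nat_lit 1), .negSucc (nat_lit 0), .ofNat (nat_lit 0), .ofNat (nat_lit 0), .ofNat (nat_lit 0), .ofNat (nat_lit 0), .ofNat (nat_lit 1), .ofNat (nat_lit 0)], [.negSucc (nat_lit 0), .negSucc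 (nat_lit 0), .ofNat (nat_lit 1), .ofNat (nat_lit 0), .ofNat (nat_lit 0), .ofNat (nat_lit 0), .ofNat (nat_lit 1), .ofNat (nat_lit 0)], [.ofNat (nat_lit 0), .ofNat (nat_lit 1), .negSucc (nat_lit 0), .ofNat (nat_lit 0), .ofNat (nat_lit 0), .ofNat (nat_lit 0), .ofNat (nat_lit 1), .ofNat (nat_lit 0)], [.ofNat (nat_lit 0), .negSucc (nat_lit 0), .negSucc (nat_lit 0), .ofNat (nat_lit 1), .ofNat (nat_lit 0), .ofNat (nat_lit 0), .ofNat (nat_lit 1), .ofNat (nat_lit 0)], [.ofNat (nat_lit 0), .ofNat (nat_lit 0), .ofNat (nat_lit 0), .negSucc (nat_lit 0), .ofNat (nat_lit 1), .ofNat (nat_lit 0), .ofNat (nat_lit 1), .ofNat (nat_lit 0)], [.ofNat (nat_lit 0), .ofNat (nat_lit 0), .ofNat (nat_lit 0), .ofNat (nat_lit 0), .negSucc (nat_lit 0), .ofNat (nat_lit 1), .ofNat (nat_lit 1), .ofNat (nat_lit 0)], [.ofNat (nat_lit 0), .ofNat (nat_lit 0), .ofNat (nat_lit 0), .ofNat (nat_lit 0), .ofNat (nat_lit 0), .negSucc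 (nat_lit 0), .ofNat (nat_lit 2), .ofNat (nat_lit 0)]]
  par := [(nat_lit 0, nat_lit 0), (nat_lit 1, nat_lit 2), (nat_lit 2, nat_lit 3), (nat_lit 3, nat_lit 1), (nat_lit 3, nat_lit 4), (nat_lit 4, nat_lit 4), (nat_lit 5, nat_lit 5), (nat_lit 6, nat_lit 5), (nat_lit 6, nat_lit 3), (nat_lit 8, nat_lit 3), (nat_lit 9, nat_lit 2), (nat_lit 10, nat_lit 2), (nat_lit 10, nat_lit 4), (nat_lit 11, nat_lit 0), (nat_lit 12, nat_lit 0), (nat_lit 12, nat_lit 4), (nat_lit 15, nat_lit 4), (nat_lit 16, nat_lit 3), (nat_lit 17, nat_lit 3), (nat_lit 18, nat_lit 1), (nat_lit 19, nat_lit 1), (nat_lit 19, nat_lit 2), (nat_lit 21, nat_lit 2), (nat_lit 23, nat_lit 3), (nat_lit 24, nat_lit 4), (nat_lit 25, nat_lit 5)]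
  succ := [[nat_lit 1, nat_lit 0, nat_lit 0, nat_lit 0, nat_lit 0, nat_lit 0], [nat_lit 0, nat_lit 1, nat_lit 1, nat_lit 2, nat_lit 1, nat_lit 1], [nat_lit 2, nat_lit 2, nat_lit 2, nat_lit 1, nat_lit 3, nat_lit 2], [nat_lit 3, nat_lit 3, nat_lit 4, nat_lit 3, nat_lit 2, nat_lit 5], [nat_lit 4, nat_lit 4, nat_lit 3, nat_lit 4, nat_lit 4, nat_lit 6], [nat_lit 5, nat_lit 7, nat_lit 6, nat_lit 5, nat_lit 5, nat_lit 3], [nat_lit 6, nat_lit 8, nat_lit 5, nat_lit 6, nat_lit 9, nat_lit 4], [nat_lit 7, nat_lit 5, nat_lit 8, nat_lit 7, nat_lit 7, nat_lit 7], [nat_lit 8, nat_lit 6, nat_lit 7, nat_lit 8, nat_lit 10, nat_lit 8], [nat_lit 9, nat_lit 10, nat_lit 9, nat_lit 11, nat_lit 6, nat_lit 9], [nat_lit 10, nat_lit 9, nat_lit 10, nat_lit 12, nat_lit 8, nat_lit 13], [nat_lit 14, nat_lit 12, nat_lit 11, nat_lit 9, nat_lit 11, nat_lit 11], [nat_lit 15, nat_lit 11, nat_lit 12, nat_lit 10, nat_lit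 12, nat_lit 16], [nat_lit 13, nat_lit 13, nat_lit 13, nat_lit 16, nat_lit 13, nat_lit 10], [nat_lit 11, nat_lit 15, nat_lit 14, nat_lit 14, nat_lit 14, nat_lit 14], [nat_lit 12, nat_lit 14, nat_lit 15, nat_lit 15, nat_lit 15, nat_lit 17], [nat_lit 17, nat_lit 16, nat_lit 16, nat_lit 13, nat_lit 18, nat_lit 12], [nat_lit 16, nat_lit 17, nat_lit 17, nat_lit 17, nat_lit 19, nat_lit 15], [nat_lit 19, nat_lit 18, nat_lit 20, nat_lit 18, nat_lit 16, nat_lit 18], [nat_lit 18, nat_lit 19, nat_lit 21, nat_lit 22, nat_lit 17, nat_lit 19], [nat_lit 21, nat_lit 20, nat_lit 18, nat_lit 20, nat_lit 20, nat_lit 20], [nat_lit 20, nat_lit 21, nat_lit 19, nat_lit 23, nat_lit 21, nat_lit 21], [nat_lit 22, nat_lit 22, nat_lit 23, nat_lit 19, nat_lit 22, nat_lit 22], [nat_lit 23, nat_lit 23, nat_lit 22, nat_lit 21, nat_lit 24, nat_lit 23], [nat_lit 24, nat_lit 24, nat_lit 24, nat_lit 24, nat_lit 23, nat_lit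 25], [nat_lit 25, nat_lit 26, nat_lit 25, nat_lit 25, nat_lit 25, nat_lit 24], [nat_lit 26, nat_lit 25, nat_lit 26, nat_lit 26, nat_lit 26, nat_lit 26]]
  deg := [nat_lit 0, nat_lit 1, nat_lit 2, nat_lit 3, nat_lit 4, nat_lit 4, nat_lit 5, nat_lit 5, nat_lit 6, nat_lit 6, nat_lit 7, nat_lit 7, nat_lit 8, nat_lit 8, nat_lit 8, nat_lit 9, nat_lit 9, nat_lit 10, nat_lit 10, nat_lit 11, nat_lit 11, nat_lit 12, nat_lit 12, nat_lit 13, nat_lit 14, nat_lit 15, nat_lit 16]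

/-- Orbit level 3. -/
def e8Level3 : Level where
  k := 5
  pts := [[.ofNat (nat_lit 0), .ofNat (nat_lit 0), .ofNat (nat_lit 0), .ofNat (nat_lit 0), .ofNat (nat_lit 0), .ofNat (nat_lit 1), .ofNat (nat_lit 0), .ofNat (nat_lit 0)], [.ofNat (nat_lit 0), .ofNat (nat_lit 0), .ofNat (nat_lit 0), .ofNat (nat_lit 0), .ofNat (nat_lit 1), .negSucc (nat_lit 0), .ofNat (nat_lit 1), .ofNat (nat_lit 0)], [.ofNat (nat_lit 0), .ofNat (nat_lit 0), .ofNat (nat_lit 0), .ofNat (nat_lit 1), .negSucc (nat_lit 0), .ofNat (nat_lit 0), .ofNat (nat_lit 1), .ofNat (nat_lit 0)], [.ofNat (nat_lit 0), .ofNat (nat_lit 1), .ofNat (nat_lit 1), .negSucc (nat_lit 0), .ofNat (nat_lit 0), .ofNat (nat_lit 0), .ofNat (nat_lit 1), .ofNat (nat_lit 0)], [.ofNat (nat_lit 0), .negSucc (nat_lit 0), .ofNat (nat_lit 1), .ofNat (nat_lit 0), .ofNat (nat_lit 0), .ofNat (nat_lit 0), .ofNat (nat_lit 1), .ofNat (nat_lit 0)], [.ofNat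 (nat_lit 1), .ofNat (nat_lit 1), .negSucc (nat_lit 0), .ofNat (nat_lit 0), .ofNat (nat_lit 0), .ofNat (nat_lit 0), .ofNat (nat_lit 1), .ofNat (nat_lit 0)], [.ofNat (nat_lit 1), .negSucc (nat_lit 0), .negSucc (nat_lit 0), .ofNat (nat_lit 1), .ofNat (nat_lit 0), .ofNat (nat_lit 0), .ofNat (nat_lit 1), .ofNat (nat_lit 0)], [.ofNat (nat_lit 1), .ofNat (nat_lit 0), .ofNat (nat_lit 0), .negSucc (nat_lit 0), .ofNat (nat_lit 1), .ofNat (nat_lit 0), .ofNat (nat_lit 1), .ofNat (nat_lit 0)], [.ofNat (nat_lit 1), .ofNat (nat_lit 0), .ofNat (nat_lit 0), .ofNat (nat_lit 0), .negSucc (nat_lit 0), .ofNat (nat_lit 1), .ofNat (nat_lit 1), .ofNat (nat_lit 0)], [.ofNat (nat_lit 1), .ofNat (nat_lit 0), .ofNat (nat_lit 0), .ofNat (nat_lit 0), .ofNat (nat_lit 0), .negSucc (nat_lit 0), .ofNat (nat_lit 2), .ofNat (nat_lit 0)]]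
  par := [(nat_lit 0, nat_lit 5), (nat_lit 1, nat_lit 4), (nat_lit 2, nat_lit 3), (nat_lit 3, nat_lit 1), (nat_lit 3, nat_lit 2), (nat_lit 4, nat_lit 2), (nat_lit 6, nat_lit 3), (nat_lit 7, nat_lit 4), (nat_lit 8, nat_lit 5)]
  succ := [[nat_lit 1, nat_lit 0, nat_lit 0, nat_lit 0, nat_lit 0], [nat_lit 0, nat_lit 1, nat_lit 1, nat_lit 1, nat_lit 2], [nat_lit 2, nat_lit 2, nat_lit 2, nat_lit 3, nat_lit 1], [nat_lit 3, nat_lit 4, nat_lit 5, nat_lit 2, nat_lit 3], [nat_lit 4, nat_lit 3, nat_lit 6, nat_lit 4, nat_lit 4], [nat_lit 5, nat_lit 6, nat_lit 3, nat_lit 5, nat_lit 5], [nat_lit 6, nat_lit 5, nat_lit 4, nat_lit 7, nat_lit 6], [nat_lit 7, nat_lit 7, nat_lit 7, nat_lit 6, nat_lit 8], [nat_lit 9, nat_lit 8, nat_lit 8, nat_lit 8, nat_lit 7], [nat_lit 8, nat_lit 9, nat_lit 9, nat_lit 9, nat_lit 9]]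
  deg := [nat_lit 0, nat_lit 1, nat_lit 2, nat_lit 3, nat_lit 4, nat_lit 4, nat_lit 5, nat_lit 6, nat_lit 7, nat_lit 8]

/-- Orbit level 4. -/
def e8Level4 : Level where
  k := 1
  pts := [[.ofNat (nat_lit 0), .ofNat (nat_lit 1), .ofNat (nat_lit 0), .ofNat (nat_lit 0), .ofNat (nat_lit 0), .ofNat (nat_lit 0), .ofNat (nat_lit 0), .ofNat (nat_lit 0)], [.ofNat (nat_lit 0), .negSucc (nat_lit 0), .ofNat (nat_lit 0), .ofNat (nat_lit 1), .ofNat (nat_lit 0), .ofNat (nat_lit 0), .ofNat (nat_lit 0), .ofNat (nat_lit 0)], [.ofNat (nat_lit 0), .ofNat (nat_lit 0), .ofNat (nat_lit 1), .negSucc (nat_lit 0), .ofNat (nat_lit 1), .ofNat (nat_lit 0), .ofNat (nat_lit 0), .ofNat (nat_lit 0)], [.ofNat (nat_lit 1), .ofNat (nat_lit 0), .negSucc (nat_lit 0), .ofNat (nat_lit 0), .ofNat (nat_lit 1), .ofNat (nat_lit 0), .ofNat (nat_lit 0), .ofNat (nat_lit 0)], [.ofNat (nat_lit 0), .ofNat (nat_lit 0), .ofNat (nat_lit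 1), .ofNat (nat_lit 0), .negSucc (nat_lit 0), .ofNat (nat_lit 1), .ofNat (nat_lit 0), .ofNat (nat_lit 0)], [.ofNat (nat_lit 1), .ofNat (nat_lit 0), .negSucc (nat_lit 0), .ofNat (nat_lit 1), .negSucc (nat_lit 0), .ofNat (nat_lit 1), .ofNat (nat_lit 0), .ofNat (nat_lit 0)], [.ofNat (nat_lit 1), .ofNat (nat_lit 1), .ofNat (nat_lit 0), .negSucc (nat_lit 0), .ofNat (nat_lit 0), .ofNat (nat_lit 1), .ofNat (nat_lit 0), .ofNat (nat_lit 0)], [.ofNat (nat_lit 1), .negSucc (nat_lit 0), .ofNat (nat_lit 0), .ofNat (nat_lit 0), .ofNat (nat_lit 0), .ofNat (nat_lit 1), .ofNat (nat_lit 0), .ofNat (nat_lit 0)]]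
  par := [(nat_lit 0, nat_lit 1), (nat_lit 1, nat_lit 3), (nat_lit 2, nat_lit 2), (nat_lit 2, nat_lit 4), (nat_lit 3, nat_lit 4), (nat_lit 5, nat_lit 3), (nat_lit 6, nat_lit 1)]
  succ := [[nat_lit 1, nat_lit 0, nat_lit 0, nat_lit 0], [nat_lit 0, nat_lit 1, nat_lit 2, nat_lit 1], [nat_lit 2, nat_lit 3, nat_lit 1, nat_lit 4], [nat_lit 3, nat_lit 2, nat_lit 3, nat_lit 5], [nat_lit 4, nat_lit 5, nat_lit 4, nat_lit 2], [nat_lit 5, nat_lit 4, nat_lit 6, nat_lit 3], [nat_lit 7, nat_lit 6, nat_lit 5, nat_lit 6], [nat_lit 6, nat_lit 7, nat_lit 7, nat_lit 7]]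
  deg := [nat_lit 0, nat_lit 1, nat_lit 2, nat_lit 3, nat_lit 3, nat_lit 4, nat_lit 5, nat_lit 6]

/-- Orbit level 5. -/
def e8Level5 : Level where
  k := 2
  pts := [[.ofNat (nat_lit 0), .ofNat (nat_lit 0), .ofNat (nat_lit 1), .ofNat (nat_lit 0), .ofNat (nat_lit 0), .ofNat (nat_lit 0), .ofNat (nat_lit 0), .ofNat (nat_lit 0)], [.ofNat (nat_lit 1), .ofNat (nat_lit 0), .negSucc (nat_lit 0), .ofNat (nat_lit 1), .ofNat (nat_lit 0), .ofNat (nat_lit 0), .ofNat (nat_lit 0), .ofNat (nat_lit 0)], [.ofNat (nat_lit 1), .ofNat (nat_lit 1), .ofNat (nat_lit 0), .negSucc (nat_lit 0), .ofNat (nat_lit 1), .ofNat (nat_lit 0), .ofNat (nat_lit 0), .ofNat (nat_lit 0)], [.ofNat (nat_lit 1), .ofNat (nat_lit 1), .ofNat (nat_lit 0), .ofNat (nat_lit 0), .negSucc (nat_lit 0), .ofNat (nat_lit 1), .ofNat (nat_lit 0), .ofNat (nat_lit 0)]]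
  par := [(nat_lit 0, nat_lit 2), (nat_lit 1, nat_lit 3), (nat_lit 2, nat_lit 4)]
  succ := [[nat_lit 1, nat_lit 0, nat_lit 0], [nat_lit 0, nat_lit 2, nat_lit 1], [nat_lit 2, nat_lit 1, nat_lit 3], [nat_lit 3, nat_lit 3, nat_lit 2]]
  deg := [nat_lit 0, nat_lit 1, nat_lit 2, nat_lit 3]

/-- Orbit level 6. -/
def e8Level6 : Level where
  k := 3
  pts := [[.ofNat (nat_lit 0), .ofNat (nat_lit 0), .ofNat (nat_lit 0), .ofNat (nat_lit 1), .ofNat (nat_lit 0), .ofNat (nat_lit 0), .ofNat (nat_lit 0), .ofNat (nat_lit 0)], [.ofNat (nat_lit 0), .ofNat (nat_lit 1), .ofNat (nat_lit 1), .negSucc (nat_lit 0), .ofNat (nat_lit 1), .ofNat (nat_lit 0), .ofNat (nat_lit 0), .ofNat (nat_lit 0)], [.ofNat (nat_lit 0), .ofNat (nat_lit 1), .ofNat (nat_lit 1), .ofNat (nat_lit 0), .negSucc (nat_lit 0), .ofNat (nat_lit 1), .ofNat (nat_lit 0), .ofNat (nat_lit 0)]]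
  par := [(nat_lit 0, nat_lit 3), (nat_lit 1, nat_lit 4)]
  succ := [[nat_lit 1, nat_lit 0], [nat_lit 0, nat_lit 2], [nat_lit 2, nat_lit 1]]
  deg := [nat_lit 0, nat_lit 1, nat_lit 2]

/-- Orbit level 7. -/
def e8Level7 : Level where
  k := 4
  pts := [[.ofNat (nat_lit 0), .ofNat (nat_lit 0), .ofNat (nat_lit 0), .ofNat (nat_lit 0), .ofNat (nat_lit 1), .ofNat (nat_lit 0), .ofNat (nat_lit 0), .ofNat (nat_lit 0)], [.ofNat (nat_lit 0), .ofNat (nat_lit 0), .ofNat (nat_lit 0), .ofNat (nat_lit 1), .negSucc (nat_lit 0), .ofNat (nat_lit 1), .ofNat (nat_lit 0), .ofNat (nat_lit 0)]]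
  par := [(nat_lit 0, nat_lit 4)]
  succ := [[nat_lit 1], [nat_lit 0]]
  deg := [nat_lit 0, nat_lit 1]

/-- The chain of orbits. -/
def e8Levels : List Level := [e8Level0, e8Level1, e8Level2, e8Level3, e8Level4, e8Level5, e8Level6, e8Level7]

/-- Coroot coordinates of the negative roots. -/
def e8Rows : List (List ℤ) := [[.negSucc (nat_lit 1), .negSucc (nat_lit 2), .negSucc (nat_lit 3), .negSucc (nat_lit 5), .negSucc (nat_lit 4), .negSucc (nat_lit 3), .negSucc (nat_lit 2), .negSucc (nat_lit 1)], [.negSucc (nat_lit 1), .negSucc (nat_lit 2), .negSucc (nat_lit 3), .negSucc (nat_lit 5), .negSucc (nat_lit 4), .negSucc (nat_lit 3), .negSucc (nat_lit 2), .negSucc (nat_lit 0)], [.negSucc (nat_lit 1), .negSucc (nat_lit 2), .negSucc (nat_lit 3), .negSucc (nat_lit 5), .negSucc (nat_lit 4), .negSucc (nat_lit 3), .negSucc (nat_lit 1), .negSucc (nat_lit 0)], [.negSucc (nat_lit 1), .negSucc (nat_lit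 2), .negSucc (nat_lit 3), .negSucc (nat_lit 5), .negSucc (nat_lit 4), .negSucc (nat_lit 2), .negSucc (nat_lit 1), .negSucc (nat_lit 0)], [.negSucc (nat_lit 1), .negSucc (nat_lit 2), .negSucc (nat_lit 3), .negSucc (nat_lit 5), .negSucc (nat_lit 3), .negSucc (nat_lit 2), .negSucc (nat_lit 1), .negSucc (nat_lit 0)], [.negSucc (nat_lit 1), .negSucc (nat_lit 2), .negSucc (nat_lit 3), .negSucc (nat_lit 4), .negSucc (nat_lit 3), .negSucc (nat_lit 2), .negSucc (nat_lit 1), .negSucc (nat_lit 0)], [.negSucc (nat_lit 1), .negSucc (nat_lit 2), .negSucc (nat_lit 2), .negSucc (nat_lit 4), .negSucc (nat_lit 3), .negSucc (nat_lit 2), .negSucc (nat_lit 1), .negSucc (nat_lit 0)], [.negSucc (nat_lit 1), .negSucc (nat_lit 1), .negSucc (nat_lit 3), .negSucc (nat_lit 4), .negSucc (nat_lit 3), .negSucc (nat_lit 2), .negSucc (nat_lit 1), .negSucc (nat_lit 0)], [.negSucc (nat_lit 1), .negSucc (nat_lit 1), .negSucc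 (nat_lit 2), .negSucc (nat_lit 4), .negSucc (nat_lit 3), .negSucc (nat_lit 2), .negSucc (nat_lit 1), .negSucc (nat_lit 0)], [.negSucc (nat_lit 1), .negSucc (nat_lit 1), .negSucc (nat_lit 2), .negSucc (nat_lit 3), .negSucc (nat_lit 3), .negSucc (nat_lit 2), .negSucc (nat_lit 1), .negSucc (nat_lit 0)], [.negSucc (nat_lit 1), .negSucc (nat_lit 1), .negSucc (nat_lit 2), .negSucc (nat_lit 3), .negSucc (nat_lit 2), .negSucc (nat_lit 2), .negSucc (nat_lit 1), .negSucc (nat_lit 0)], [.negSucc (nat_lit 1), .negSucc (nat_lit 1), .negSucc (nat_lit 2), .negSucc (nat_lit 3), .negSucc (nat_lit 2), .negSucc (nat_lit 1), .negSucc (nat_lit 1), .negSucc (nat_lit 0)], [.negSucc (nat_lit 1), .negSucc (nat_lit 1), .negSucc (nat_lit 2), .negSucc (nat_lit 3), .negSucc (nat_lit 2), .negSucc (nat_lit 1), .negSucc (nat_lit 0), .negSucc (nat_lit 0)], [.negSucc (nat_lit 1), .negSucc (nat_lit 1), .negSucc (nat_lit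 2), .negSucc (nat_lit 3), .negSucc (nat_lit 2), .negSucc (nat_lit 1), .negSucc (nat_lit 0), .ofNat (nat_lit 0)], [.negSucc (nat_lit 0), .negSucc (nat_lit 2), .negSucc (nat_lit 2), .negSucc (nat_lit 4), .negSucc (nat_lit 3), .negSucc (nat_lit 2), .negSucc (nat_lit 1), .negSucc (nat_lit 0)], [.negSucc (nat_lit 0), .negSucc (nat_lit 1), .negSucc (nat_lit 2), .negSucc (nat_lit 4), .negSucc (nat_lit 3), .negSucc (nat_lit 2), .negSucc (nat_lit 1), .negSucc (nat_lit 0)], [.negSucc (nat_lit 0), .negSucc (nat_lit 1), .negSucc (nat_lit 2), .negSucc (nat_lit 3), .negSucc (nat_lit 3), .negSucc (nat_lit 2), .negSucc (nat_lit 1), .negSucc (nat_lit 0)], [.negSucc (nat_lit 0), .negSucc (nat_lit 1), .negSucc (nat_lit 2), .negSucc (nat_lit 3), .negSucc (nat_lit 2), .negSucc (nat_lit 2), .negSucc (nat_lit 1), .negSucc (nat_lit 0)], [.negSucc (nat_lit 0), .negSucc (nat_lit 1), .negSucc (nat_lit 2), .negSucc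 (nat_lit 3), .negSucc (nat_lit 2), .negSucc (nat_lit 1), .negSucc (nat_lit 1), .negSucc (nat_lit 0)], [.negSucc (nat_lit 0), .negSucc (nat_lit 1), .negSucc (nat_lit 2), .negSucc (nat_lit 3), .negSucc (nat_lit 2), .negSucc (nat_lit 1), .negSucc (nat_lit 0), .negSucc (nat_lit 0)], [.negSucc (nat_lit 0), .negSucc (nat_lit 1), .negSucc (nat_lit 2), .negSucc (nat_lit 3), .negSucc (nat_lit 2), .negSucc (nat_lit 1), .negSucc (nat_lit 0), .ofNat (nat_lit 0)], [.negSucc (nat_lit 0), .negSucc (nat_lit 1), .negSucc (nat_lit 1), .negSucc (nat_lit 3), .negSucc (nat_lit 3), .negSucc (nat_lit 2), .negSucc (nat_lit 1), .negSucc (nat_lit 0)], [.negSucc (nat_lit 0), .negSucc (nat_lit 1), .negSucc (nat_lit 1), .negSucc (nat_lit 3), .negSucc (nat_lit 2), .negSucc (nat_lit 2), .negSucc (nat_lit 1), .negSucc (nat_lit 0)], [.negSucc (nat_lit 0), .negSucc (nat_lit 1), .negSucc (nat_lit 1), .negSucc (nat_lit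 3), .negSucc (nat_lit 2), .negSucc (nat_lit 1), .negSucc (nat_lit 1), .negSucc (nat_lit 0)], [.negSucc (nat_lit 0), .negSucc (nat_lit 1), .negSucc (nat_lit 1), .negSucc (nat_lit 3), .negSucc (nat_lit 2), .negSucc (nat_lit 1), .negSucc (nat_lit 0), .negSucc (nat_lit 0)], [.negSucc (nat_lit 0), .negSucc (nat_lit 1), .negSucc (nat_lit 1), .negSucc (nat_lit 3), .negSucc (nat_lit 2), .negSucc (nat_lit 1), .negSucc (nat_lit 0), .ofNat (nat_lit 0)], [.negSucc (nat_lit 0), .negSucc (nat_lit 1), .negSucc (nat_lit 1), .negSucc (nat_lit 2), .negSucc (nat_lit 2), .negSucc (nat_lit 2), .negSucc (nat_lit 1), .negSucc (nat_lit 0)], [.negSucc (nat_lit 0), .negSucc (nat_lit 1), .negSucc (nat_lit 1), .negSucc (nat_lit 2), .negSucc (nat_lit 2), .negSucc (nat_lit 1), .negSucc (nat_lit 1), .negSucc (nat_lit 0)], [.negSucc (nat_lit 0), .negSucc (nat_lit 1), .negSucc (nat_lit 1), .negSucc (nat_lit 2), .negSucc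 (nat_lit 2), .negSucc (nat_lit 1), .negSucc (nat_lit 0), .negSucc (nat_lit 0)], [.negSucc (nat_lit 0), .negSucc (nat_lit 1), .negSucc (nat_lit 1), .negSucc (nat_lit 2), .negSucc (nat_lit 2), .negSucc (nat_lit 1), .negSucc (nat_lit 0), .ofNat (nat_lit 0)], [.negSucc (nat_lit 0), .negSucc (nat_lit 1), .negSucc (nat_lit 1), .negSucc (nat_lit 2), .negSucc (nat_lit 1), .negSucc (nat_lit 1), .negSucc (nat_lit 1), .negSucc (nat_lit 0)], [.negSucc (nat_lit 0), .negSucc (nat_lit 1), .negSucc (nat_lit 1), .negSucc (nat_lit 2), .negSucc (nat_lit 1), .negSucc (nat_lit 1), .negSucc (nat_lit 0), .negSucc (nat_lit 0)], [.negSucc (nat_lit 0), .negSucc (nat_lit 1), .negSucc (nat_lit 1), .negSucc (nat_lit 2), .negSucc (nat_lit 1), .negSucc (nat_lit 1), .negSucc (nat_lit 0), .ofNat (nat_lit 0)], [.negSucc (nat_lit 0), .negSucc (nat_lit 1), .negSucc (nat_lit 1), .negSucc (nat_lit 2), .negSucc (nat_lit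 1), .negSucc (nat_lit 0), .negSucc (nat_lit 0), .negSucc (nat_lit 0)], [.negSucc (nat_lit 0), .negSucc (nat_lit 1), .negSucc (nat_lit 1), .negSucc (nat_lit 2), .negSucc (nat_lit 1), .negSucc (nat_lit 0), .negSucc (nat_lit 0), .ofNat (nat_lit 0)], [.negSucc (nat_lit 0), .negSucc (nat_lit 1), .negSucc (nat_lit 1), .negSucc (nat_lit 2), .negSucc (nat_lit 1), .negSucc (nat_lit 0), .ofNat (nat_lit 0), .ofNat (nat_lit 0)], [.negSucc (nat_lit 0), .negSucc (nat_lit 0), .negSucc (nat_lit 1), .negSucc (nat_lit 2), .negSucc (nat_lit 2), .negSucc (nat_lit 2), .negSucc (nat_lit 1), .negSucc (nat_lit 0)], [.negSucc (nat_lit 0), .negSucc (nat_lit 0), .negSucc (nat_lit 1), .negSucc (nat_lit 2), .negSucc (nat_lit 2), .negSucc (nat_lit 1), .negSucc (nat_lit 1), .negSucc (nat_lit 0)], [.negSucc (nat_lit 0), .negSucc (nat_lit 0), .negSucc (nat_lit 1), .negSucc (nat_lit 2), .negSucc (nat_lit 2), .negSucc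 (nat_lit 1), .negSucc (nat_lit 0), .negSucc (nat_lit 0)], [.negSucc (nat_lit 0), .negSucc (nat_lit 0), .negSucc (nat_lit 1), .negSucc (nat_lit 2), .negSucc (nat_lit 2), .negSucc (nat_lit 1), .negSucc (nat_lit 0), .ofNat (nat_lit 0)], [.negSucc (nat_lit 0), .negSucc (nat_lit 0), .negSucc (nat_lit 1), .negSucc (nat_lit 2), .negSucc (nat_lit 1), .negSucc (nat_lit 1), .negSucc (nat_lit 1), .negSucc (nat_lit 0)], [.negSucc (nat_lit 0), .negSucc (nat_lit 0), .negSucc (nat_lit 1), .negSucc (nat_lit 2), .negSucc (nat_lit 1), .negSucc (nat_lit 1), .negSucc (nat_lit 0), .negSucc (nat_lit 0)], [.negSucc (nat_lit 0), .negSucc (nat_lit 0), .negSucc (nat_lit 1), .negSucc (nat_lit 2), .negSucc (nat_lit 1), .negSucc (nat_lit 1), .negSucc (nat_lit 0), .ofNat (nat_lit 0)], [.negSucc (nat_lit 0), .negSucc (nat_lit 0), .negSucc (nat_lit 1), .negSucc (nat_lit 2), .negSucc (nat_lit 1), .negSucc (nat_lit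 0), .negSucc (nat_lit 0), .negSucc (nat_lit 0)], [.negSucc (nat_lit 0), .negSucc (nat_lit 0), .negSucc (nat_lit 1), .negSucc (nat_lit 2), .negSucc (nat_lit 1), .negSucc (nat_lit 0), .negSucc (nat_lit 0), .ofNat (nat_lit 0)], [.negSucc (nat_lit 0), .negSucc (nat_lit 0), .negSucc (nat_lit 1), .negSucc (nat_lit 2), .negSucc (nat_lit 1), .negSucc (nat_lit 0), .ofNat (nat_lit 0), .ofNat (nat_lit 0)], [.negSucc (nat_lit 0), .negSucc (nat_lit 0), .negSucc (nat_lit 1), .negSucc (nat_lit 1), .negSucc (nat_lit 1), .negSucc (nat_lit 1), .negSucc (nat_lit 1), .negSucc (nat_lit 0)], [.negSucc (nat_lit 0), .negSucc (nat_lit 0), .negSucc (nat_lit 1), .negSucc (nat_lit 1), .negSucc (nat_lit 1), .negSucc (nat_lit 1), .negSucc (nat_lit 0), .negSucc (nat_lit 0)], [.negSucc (nat_lit 0), .negSucc (nat_lit 0), .negSucc (nat_lit 1), .negSucc (nat_lit 1), .negSucc (nat_lit 1), .negSucc (nat_lit 1), .negSucc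 (nat_lit 0), .ofNat (nat_lit 0)], [.negSucc (nat_lit 0), .negSucc (nat_lit 0), .negSucc (nat_lit 1), .negSucc (nat_lit 1), .negSucc (nat_lit 1), .negSucc (nat_lit 0), .negSucc (nat_lit 0), .negSucc (nat_lit 0)], [.negSucc (nat_lit 0), .negSucc (nat_lit 0), .negSucc (nat_lit 1), .negSucc (nat_lit 1), .negSucc (nat_lit 1), .negSucc (nat_lit 0), .negSucc (nat_lit 0), .ofNat (nat_lit 0)], [.negSucc (nat_lit 0), .negSucc (nat_lit 0), .negSucc (nat_lit 1), .negSucc (nat_lit 1), .negSucc (nat_lit 1), .negSucc (nat_lit 0), .ofNat (nat_lit 0), .ofNat (nat_lit 0)], [.negSucc (nat_lit 0), .negSucc (nat_lit 0), .negSucc (nat_lit 1), .negSucc (nat_lit 1), .negSucc (nat_lit 0), .negSucc (nat_lit 0), .negSucc (nat_lit 0), .negSucc (nat_lit 0)], [.negSucc (nat_lit 0), .negSucc (nat_lit 0), .negSucc (nat_lit 1), .negSucc (nat_lit 1), .negSucc (nat_lit 0), .negSucc (nat_lit 0), .negSucc (nat_lit 0),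 .ofNat (nat_lit 0)], [.negSucc (nat_lit 0), .negSucc (nat_lit 0), .negSucc (nat_lit 1), .negSucc (nat_lit 1), .negSucc (nat_lit 0), .negSucc (nat_lit 0), .ofNat (nat_lit 0), .ofNat (nat_lit 0)], [.negSucc (nat_lit 0), .negSucc (nat_lit 0), .negSucc (nat_lit 1), .negSucc (nat_lit 1), .negSucc (nat_lit 0), .ofNat (nat_lit 0), .ofNat (nat_lit 0), .ofNat (nat_lit 0)], [.negSucc (nat_lit 0), .negSucc (nat_lit 0), .negSucc (nat_lit 0), .negSucc (nat_lit 1), .negSucc (nat_lit 1), .negSucc (nat_lit 1), .negSucc (nat_lit 1), .negSucc (nat_lit 0)], [.negSucc (nat_lit 0), .negSucc (nat_lit 0), .negSucc (nat_lit 0), .negSucc (nat_lit 1), .negSucc (nat_lit 1), .negSucc (nat_lit 1), .negSucc (nat_lit 0), .negSucc (nat_lit 0)], [.negSucc (nat_lit 0), .negSucc (nat_lit 0), .negSucc (nat_lit 0), .negSucc (nat_lit 1), .negSucc (nat_lit 1), .negSucc (nat_lit 1), .negSucc (nat_lit 0), .ofNat (nat_lit 0)],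 [.negSucc (nat_lit 0), .negSucc (nat_lit 0), .negSucc (nat_lit 0), .negSucc (nat_lit 1), .negSucc (nat_lit 1), .negSucc (nat_lit 0), .negSucc (nat_lit 0), .negSucc (nat_lit 0)], [.negSucc (nat_lit 0), .negSucc (nat_lit 0), .negSucc (nat_lit 0), .negSucc (nat_lit 1), .negSucc (nat_lit 1), .negSucc (nat_lit 0), .negSucc (nat_lit 0), .ofNat (nat_lit 0)], [.negSucc (nat_lit 0), .negSucc (nat_lit 0), .negSucc (nat_lit 0), .negSucc (nat_lit 1), .negSucc (nat_lit 1), .negSucc (nat_lit 0), .ofNat (nat_lit 0), .ofNat (nat_lit 0)], [.negSucc (nat_lit 0), .negSucc (nat_lit 0), .negSucc (nat_lit 0), .negSucc (nat_lit 1), .negSucc (nat_lit 0), .negSucc (nat_lit 0), .negSucc (nat_lit 0), .negSucc (nat_lit 0)], [.negSucc (nat_lit 0), .negSucc (nat_lit 0), .negSucc (nat_lit 0), .negSucc (nat_lit 1), .negSucc (nat_lit 0), .negSucc (nat_lit 0), .negSucc (nat_lit 0), .ofNat (nat_lit 0)], [.negSucc (nat_lit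 0), .negSucc (nat_lit 0), .negSucc (nat_lit 0), .negSucc (nat_lit 1), .negSucc (nat_lit 0), .negSucc (nat_lit 0), .ofNat (nat_lit 0), .ofNat (nat_lit 0)], [.negSucc (nat_lit 0), .negSucc (nat_lit 0), .negSucc (nat_lit 0), .negSucc (nat_lit 1), .negSucc (nat_lit 0), .ofNat (nat_lit 0), .ofNat (nat_lit 0), .ofNat (nat_lit 0)], [.negSucc (nat_lit 0), .negSucc (nat_lit 0), .negSucc (nat_lit 0), .negSucc (nat_lit 0), .negSucc (nat_lit 0), .negSucc (nat_lit 0), .negSucc (nat_lit 0), .negSucc (nat_lit 0)], [.negSucc (nat_lit 0), .negSucc (nat_lit 0), .negSucc (nat_lit 0), .negSucc (nat_lit 0), .negSucc (nat_lit 0), .negSucc (nat_lit 0), .negSucc (nat_lit 0), .ofNat (nat_lit 0)], [.negSucc (nat_lit 0), .negSucc (nat_lit 0), .negSucc (nat_lit 0), .negSucc (nat_lit 0), .negSucc (nat_lit 0), .negSucc (nat_lit 0), .ofNat (nat_lit 0), .ofNat (nat_lit 0)], [.negSucc (nat_lit 0), .negSucc (nat_lit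 0), .negSucc (nat_lit 0), .negSucc (nat_lit 0), .negSucc (nat_lit 0), .ofNat (nat_lit 0), .ofNat (nat_lit 0), .ofNat (nat_lit 0)], [.negSucc (nat_lit 0), .negSucc (nat_lit 0), .negSucc (nat_lit 0), .negSucc (nat_lit 0), .ofNat (nat_lit 0), .ofNat (nat_lit 0), .ofNat (nat_lit 0), .ofNat (nat_lit 0)], [.negSucc (nat_lit 0), .ofNat (nat_lit 0), .negSucc (nat_lit 0), .negSucc (nat_lit 0), .negSucc (nat_lit 0), .negSucc (nat_lit 0), .negSucc (nat_lit 0), .negSucc (nat_lit 0)], [.negSucc (nat_lit 0), .ofNat (nat_lit 0), .negSucc (nat_lit 0), .negSucc (nat_lit 0), .negSucc (nat_lit 0), .negSucc (nat_lit 0), .negSucc (nat_lit 0), .ofNat (nat_lit 0)], [.negSucc (nat_lit 0), .ofNat (nat_lit 0), .negSucc (nat_lit 0), .negSucc (nat_lit 0), .negSucc (nat_lit 0), .negSucc (nat_lit 0), .ofNat (nat_lit 0), .ofNat (nat_lit 0)], [.negSucc (nat_lit 0), .ofNat (nat_lit 0), .negSucc (nat_lit 0), .negSucc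 (nat_lit 0), .negSucc (nat_lit 0), .ofNat (nat_lit 0), .ofNat (nat_lit 0), .ofNat (nat_lit 0)], [.negSucc (nat_lit 0), .ofNat (nat_lit 0), .negSucc (nat_lit 0), .negSucc (nat_lit 0), .ofNat (nat_lit 0), .ofNat (nat_lit 0), .ofNat (nat_lit 0), .ofNat (nat_lit 0)], [.negSucc (nat_lit 0), .ofNat (nat_lit 0), .negSucc (nat_lit 0), .ofNat (nat_lit 0), .ofNat (nat_lit 0), .ofNat (nat_lit 0), .ofNat (nat_lit 0), .ofNat (nat_lit 0)], [.negSucc (nat_lit 0), .ofNat (nat_lit 0), .ofNat (nat_lit 0), .ofNat (nat_lit 0), .ofNat (nat_lit 0), .ofNat (nat_lit 0), .ofNat (nat_lit 0), .ofNat (nat_lit 0)], [.ofNat (nat_lit 0), .negSucc (nat_lit 0), .negSucc (nat_lit 0), .negSucc (nat_lit 1), .negSucc (nat_lit 1), .negSucc (nat_lit 1), .negSucc (nat_lit 1), .negSucc (nat_lit 0)], [.ofNat (nat_lit 0), .negSucc (nat_lit 0), .negSucc (nat_lit 0), .negSucc (nat_lit 1), .negSucc (nat_lit 1), .negSucc (nat_lit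 1), .negSucc (nat_lit 0), .negSucc (nat_lit 0)], [.ofNat (nat_lit 0), .negSucc (nat_lit 0), .negSucc (nat_lit 0), .negSucc (nat_lit 1), .negSucc (nat_lit 1), .negSucc (nat_lit 1), .negSucc (nat_lit 0), .ofNat (nat_lit 0)], [.ofNat (nat_lit 0), .negSucc (nat_lit 0), .negSucc (nat_lit 0), .negSucc (nat_lit 1), .negSucc (nat_lit 1), .negSucc (nat_lit 0), .negSucc (nat_lit 0), .negSucc (nat_lit 0)], [.ofNat (nat_lit 0), .negSucc (nat_lit 0), .negSucc (nat_lit 0), .negSucc (nat_lit 1), .negSucc (nat_lit 1), .negSucc (nat_lit 0), .negSucc (nat_lit 0), .ofNat (nat_lit 0)], [.ofNat (nat_lit 0), .negSucc (nat_lit 0), .negSucc (nat_lit 0), .negSucc (nat_lit 1), .negSucc (nat_lit 1), .negSucc (nat_lit 0), .ofNat (nat_lit 0), .ofNat (nat_lit 0)], [.ofNat (nat_lit 0), .negSucc (nat_lit 0), .negSucc (nat_lit 0), .negSucc (nat_lit 1), .negSucc (nat_lit 0), .negSucc (nat_lit 0), .negSucc (nat_lit 0),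 .negSucc (nat_lit 0)], [.ofNat (nat_lit 0), .negSucc (nat_lit 0), .negSucc (nat_lit 0), .negSucc (nat_lit 1), .negSucc (nat_lit 0), .negSucc (nat_lit 0), .negSucc (nat_lit 0), .ofNat (nat_lit 0)], [.ofNat (nat_lit 0), .negSucc (nat_lit 0), .negSucc (nat_lit 0), .negSucc (nat_lit 1), .negSucc (nat_lit 0), .negSucc (nat_lit 0), .ofNat (nat_lit 0), .ofNat (nat_lit 0)], [.ofNat (nat_lit 0), .negSucc (nat_lit 0), .negSucc (nat_lit 0), .negSucc (nat_lit 1), .negSucc (nat_lit 0), .ofNat (nat_lit 0), .ofNat (nat_lit 0), .ofNat (nat_lit 0)], [.ofNat (nat_lit 0), .negSucc (nat_lit 0), .negSucc (nat_lit 0), .negSucc (nat_lit 0), .negSucc (nat_lit 0), .negSucc (nat_lit 0), .negSucc (nat_lit 0), .negSucc (nat_lit 0)], [.ofNat (nat_lit 0), .negSucc (nat_lit 0), .negSucc (nat_lit 0), .negSucc (nat_lit 0), .negSucc (nat_lit 0), .negSucc (nat_lit 0), .negSucc (nat_lit 0), .ofNat (nat_lit 0)], [.ofNat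 (nat_lit 0), .negSucc (nat_lit 0), .negSucc (nat_lit 0), .negSucc (nat_lit 0), .negSucc (nat_lit 0), .negSucc (nat_lit 0), .ofNat (nat_lit 0), .ofNat (nat_lit 0)], [.ofNat (nat_lit 0), .negSucc (nat_lit 0), .negSucc (nat_lit 0), .negSucc (nat_lit 0), .negSucc (nat_lit 0), .ofNat (nat_lit 0), .ofNat (nat_lit 0), .ofNat (nat_lit 0)], [.ofNat (nat_lit 0), .negSucc (nat_lit 0), .negSucc (nat_lit 0), .negSucc (nat_lit 0), .ofNat (nat_lit 0), .ofNat (nat_lit 0), .ofNat (nat_lit 0), .ofNat (nat_lit 0)], [.ofNat (nat_lit 0), .negSucc (nat_lit 0), .ofNat (nat_lit 0), .negSucc (nat_lit 0), .negSucc (nat_lit 0), .negSucc (nat_lit 0), .negSucc (nat_lit 0), .negSucc (nat_lit 0)], [.ofNat (nat_lit 0), .negSucc (nat_lit 0), .ofNat (nat_lit 0), .negSucc (nat_lit 0), .negSucc (nat_lit 0), .negSucc (nat_lit 0), .negSucc (nat_lit 0), .ofNat (nat_lit 0)], [.ofNat (nat_lit 0), .negSucc (nat_lit 0), .ofNat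 (nat_lit 0), .negSucc (nat_lit 0), .negSucc (nat_lit 0), .negSucc (nat_lit 0), .ofNat (nat_lit 0), .ofNat (nat_lit 0)], [.ofNat (nat_lit 0), .negSucc (nat_lit 0), .ofNat (nat_lit 0), .negSucc (nat_lit 0), .negSucc (nat_lit 0), .ofNat (nat_lit 0), .ofNat (nat_lit 0), .ofNat (nat_lit 0)], [.ofNat (nat_lit 0), .negSucc (nat_lit 0), .ofNat (nat_lit 0), .negSucc (nat_lit 0), .ofNat (nat_lit 0), .ofNat (nat_lit 0), .ofNat (nat_lit 0), .ofNat (nat_lit 0)], [.ofNat (nat_lit 0), .negSucc (nat_lit 0), .ofNat (nat_lit 0), .ofNat (nat_lit 0), .ofNat (nat_lit 0), .ofNat (nat_lit 0), .ofNat (nat_lit 0), .ofNat (nat_lit 0)], [.ofNat (nat_lit 0), .ofNat (nat_lit 0), .negSucc (nat_lit 0), .negSucc (nat_lit 0), .negSucc (nat_lit 0), .negSucc (nat_lit 0), .negSucc (nat_lit 0), .negSucc (nat_lit 0)], [.ofNat (nat_lit 0), .ofNat (nat_lit 0), .negSucc (nat_lit 0), .negSucc (nat_lit 0), .negSucc (nat_lit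 0), .negSucc (nat_lit 0), .negSucc (nat_lit 0), .ofNat (nat_lit 0)], [.ofNat (nat_lit 0), .ofNat (nat_lit 0), .negSucc (nat_lit 0), .negSucc (nat_lit 0), .negSucc (nat_lit 0), .negSucc (nat_lit 0), .ofNat (nat_lit 0), .ofNat (nat_lit 0)], [.ofNat (nat_lit 0), .ofNat (nat_lit 0), .negSucc (nat_lit 0), .negSucc (nat_lit 0), .negSucc (nat_lit 0), .ofNat (nat_lit 0), .ofNat (nat_lit 0), .ofNat (nat_lit 0)], [.ofNat (nat_lit 0), .ofNat (nat_lit 0), .negSucc (nat_lit 0), .negSucc (nat_lit 0), .ofNat (nat_lit 0), .ofNat (nat_lit 0), .ofNat (nat_lit 0), .ofNat (nat_lit 0)], [.ofNat (nat_lit 0), .ofNat (nat_lit 0), .negSucc (nat_lit 0), .ofNat (nat_lit 0), .ofNat (nat_lit 0), .ofNat (nat_lit 0), .ofNat (nat_lit 0), .ofNat (nat_lit 0)], [.ofNat (nat_lit 0), .ofNat (nat_lit 0), .ofNat (nat_lit 0), .negSucc (nat_lit 0), .negSucc (nat_lit 0), .negSucc (nat_lit 0), .negSucc (nat_lit 0), .negSucc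 (nat_lit 0)], [.ofNat (nat_lit 0), .ofNat (nat_lit 0), .ofNat (nat_lit 0), .negSucc (nat_lit 0), .negSucc (nat_lit 0), .negSucc (nat_lit 0), .negSucc (nat_lit 0), .ofNat (nat_lit 0)], [.ofNat (nat_lit 0), .ofNat (nat_lit 0), .ofNat (nat_lit 0), .negSucc (nat_lit 0), .negSucc (nat_lit 0), .negSucc (nat_lit 0), .ofNat (nat_lit 0), .ofNat (nat_lit 0)], [.ofNat (nat_lit 0), .ofNat (nat_lit 0), .ofNat (nat_lit 0), .negSucc (nat_lit 0), .negSucc (nat_lit 0), .ofNat (nat_lit 0), .ofNat (nat_lit 0), .ofNat (nat_lit 0)], [.ofNat (nat_lit 0), .ofNat (nat_lit 0), .ofNat (nat_lit 0), .negSucc (nat_lit 0), .ofNat (nat_lit 0), .ofNat (nat_lit 0), .ofNat (nat_lit 0), .ofNat (nat_lit 0)], [.ofNat (nat_lit 0), .ofNat (nat_lit 0), .ofNat (nat_lit 0), .ofNat (nat_lit 0), .negSucc (nat_lit 0), .negSucc (nat_lit 0), .negSucc (nat_lit 0), .negSucc (nat_lit 0)], [.ofNat (nat_lit 0), .ofNat (nat_lit 0), .ofNat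 (nat_lit 0), .ofNat (nat_lit 0), .negSucc (nat_lit 0), .negSucc (nat_lit 0), .negSucc (nat_lit 0), .ofNat (nat_lit 0)], [.ofNat (nat_lit 0), .ofNat (nat_lit 0), .ofNat (nat_lit 0), .ofNat (nat_lit 0), .negSucc (nat_lit 0), .negSucc (nat_lit 0), .ofNat (nat_lit 0), .ofNat (nat_lit 0)], [.ofNat (nat_lit 0), .ofNat (nat_lit 0), .ofNat (nat_lit 0), .ofNat (nat_lit 0), .negSucc (nat_lit 0), .ofNat (nat_lit 0), .ofNat (nat_lit 0), .ofNat (nat_lit 0)], [.ofNat (nat_lit 0), .ofNat (nat_lit 0), .ofNat (nat_lit 0), .ofNat (nat_lit 0), .ofNat (nat_lit 0), .negSucc (nat_lit 0), .negSucc (nat_lit 0), .negSucc (nat_lit 0)], [.ofNat (nat_lit 0), .ofNat (nat_lit 0), .ofNat (nat_lit 0), .ofNat (nat_lit 0), .ofNat (nat_lit 0), .negSucc (nat_lit 0), .negSucc (nat_lit 0), .ofNat (nat_lit 0)], [.ofNat (nat_lit 0), .ofNat (nat_lit 0), .ofNat (nat_lit 0), .ofNat (nat_lit 0), .ofNat (nat_lit 0), .negSucc (nat_lit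 0), .ofNat (nat_lit 0), .ofNat (nat_lit 0)], [.ofNat (nat_lit 0), .ofNat (nat_lit 0), .ofNat (nat_lit 0), .ofNat (nat_lit 0), .ofNat (nat_lit 0), .ofNat (nat_lit 0), .negSucc (nat_lit 0), .negSucc (nat_lit 0)], [.ofNat (nat_lit 0), .ofNat (nat_lit 0), .ofNat (nat_lit 0), .ofNat (nat_lit 0), .ofNat (nat_lit 0), .ofNat (nat_lit 0), .negSucc (nat_lit 0), .ofNat (nat_lit 0)], [.ofNat (nat_lit 0), .ofNat (nat_lit 0), .ofNat (nat_lit 0), .ofNat (nat_lit 0), .ofNat (nat_lit 0), .ofNat (nat_lit 0), .ofNat (nat_lit 0), .negSucc (nat_lit 0)]]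

theorem e8_rows : chkRows chevE8 e8Cert e8Rows = true := by decide +kernel

theorem e8_chain : chkChain chevE8 e8Cert e8Rows e8Levels = true := by decide +kernel

theorem e8_all : allBelow (fun i => (e8Levels.map Level.k).contains i) chevE8.rank = true := by
  decide +kernel

theorem e8_factor : chkFactor (e8Levels.map Level.deg) chevE8.rank [2, 8, 12, 14, 18, 20, 24, 30] = true := by
  decide +kernel

theorem e8_weyl_size : (e8Levels.map fun L => L.deg.length).prod = 696729600 := by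
  decide +kernel

theorem e8_smith : chkSmith chevE8 e8Cert [[-1, 0, 0, 0, 0, 0, 0, 0], [0, -1, 0, 0, 0, 0, 0, 0], [1, -2, 0, -1, 0, 0, 0, 0], [2, -3, 0, -2, -1, 0, 0, 0], [3, -4, 0, -3, -2, -1, 0, 0], [4, -5, 0, -4, -3, -2, -1, 0], [-2, 1, -1, 0, 0, 0, 0, 0], [-3, -2, -4, -5, -4, -3, -2, -1]]
    [[-1, 0, 0, 0, 0, 0, 0, 0], [0, -1, 0, 0, 0, 0, 0, 0], [2, -1, 0, 0, 0, 0, -1, 0], [-1, 2, -1, 0, 0, 0, 0, 0], [0, -1, 2, -1, 0, 0, 0, 0], [0, 0, -1, 2, -1, 0, 0, 0], [0, 0, 0, -1, 2, -1, 0, 0], [0, 0, 0, 0, -1, 2, 4, -1]]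
    [[0, 0, 0, 0, 0, 0, 1, -2], [0, 0, 0, 0, 0, 0, 2, -3], [1, 0, 0, 0, 0, 0, 2, -4], [0, 1, 0, 0, 0, 0, 4, -6], [0, 0, 1, 0, 0, 0, 4, -5], [0, 0, 0, 1, 0, 0, 4, -4], [0, 0, 0, 0, 1, 0, 4, -3], [0, 0, 0, 0, 0, 1, 4, -2]]
    [[-2, 0, 1, 0, 0, 0, 0, 0], [0, -2, 0, 1, 0, 0, 0, 0], [2, -3, 0, 0, 1, 0, 0, 0], [4, -4, 0, 0, 0, 1, 0, 0], [6, -5, 0, 0, 0, 0, 1, 0], [8, -6, 0, 0, 0, 0, 0, 1], [-3, 2, 0, 0, 0, 0, 0, 0], [-2, 1, 0, 0, 0, 0, 0, 0]] [1, 1, 1, 1, 1, 1, 1, 1] = true := by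
  decide +kernel

/-- Orders of the products of two fundamental reflections. -/
def e8Cox : List (List ℕ) := [[1, 2, 3, 2, 2, 2, 2, 2], [2, 1, 2, 3, 2, 2, 2, 2], [3, 2, 1, 3, 2, 2, 2, 2], [2, 3, 3, 1, 3, 2, 2, 2], [2, 2, 2, 3, 1, 3, 2, 2], [2, 2, 2, 2, 3, 1, 3, 2], [2, 2, 2, 2, 2, 3, 1, 3], [2, 2, 2, 2, 2, 2, 3, 1]]

theorem e8_cox : chkCox chevE8 e8Cert (fun i j => (e8Cox.getD i []).getD j 0) = true := by
  decide +kernel

theorem e8_coxeterElement : chkOrd chevE8 e8Cert (List.range chevE8.rank) 30 = true := by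
  decide +kernel

end Cfsg.Agent.Chev
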