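import Cfsg.Agent.Chev.Poly
import Cfsg.Agent.Chev.TorusCard
import Cfsg.Agent.Chev.WeylOrders
import Cfsg.Agent.Chev.Check.F4

/-! Orbit, Cartan and Coxeter certificates of `chevF4`; computed from the frozen tables and checked by the kernel. -/

set_option autoImplicit false
set_option maxRecDepth 100000

namespace Cfsg.Agent.Chev

open Cfsg.Lie

/-- Orbit level 0. -/
def f4Level0 : Level where
  k := 0
  pts := [[.ofNat (nat_lit 1), .ofNat (nat_lit 0), .ofNat (nat_lit 0), .ofNat (nat_lit 0)], [.negSucc (nat_lit 0), .ofNat (nat_lit 1), .ofNat (nat_lit 0), .ofNat (nat_lit 0)], [.ofNat (nat_lit 0), .negSucc (nat_lit 0), .ofNat (nat_lit 1), .ofNat (nat_lit 0)], [.ofNat (nat_lit 0), .ofNat (nat_lit 1), .negSucc (nat_lit 0), .ofNat (nat_lit 1)], [.ofNat (nat_lit 0), .ofNat (nat_lit 1), .ofNat (nat_lit 0), .negSucc (nat_lit 0)], [.ofNat (nat_lit 1), .negSucc (nat_lit 0), .ofNat (nat_lit 0), .ofNat (nat_lit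 1)], [.ofNat (nat_lit 1), .negSucc (nat_lit 0), .ofNat (nat_lit 1), .negSucc (nat_lit 0)], [.negSucc (nat_lit 0), .ofNat (nat_lit 0), .ofNat (nat_lit 0), .ofNat (nat_lit 1)], [.negSucc (nat_lit 0), .ofNat (nat_lit 0), .ofNat (nat_lit 1), .negSucc (nat_lit 0)], [.ofNat (nat_lit 1), .ofNat (nat_lit 1), .negSucc (nat_lit 0), .ofNat (nat_lit 0)], [.negSucc (nat_lit 0), .ofNat (nat_lit 2), .negSucc (nat_lit 0), .ofNat (nat_lit 0)], [.ofNat (nat_lit 2), .negSucc (nat_lit 0), .ofNat (nat_lit 0), .ofNat (nat_lit 0)], [.ofNat (nat_lit 1), .negSucc (nat_lit 1), .ofNat (nat_lit 1), .ofNat (nat_lit 0)], [.negSucc (nat_lit 1), .ofNat (nat_lit 1), .ofNat (nat_lit 0), .ofNat (nat_lit 0)], [.negSucc (nat_lit 0), .negSucc (nat_lit 0), .ofNat (nat_lit 1), .ofNat (nat_lit 0)], [.ofNat (nat_lit 1), .ofNat (nat_lit 0), .negSucc (nat_lit 0), .ofNat (nat_lit 1)], [.negSucc (nat_lit 0), .ofNat (nat_lit 1), .negSucc (nat_lit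 0), .ofNat (nat_lit 1)], [.ofNat (nat_lit 1), .ofNat (nat_lit 0), .ofNat (nat_lit 0), .negSucc (nat_lit 0)], [.negSucc (nat_lit 0), .ofNat (nat_lit 1), .ofNat (nat_lit 0), .negSucc (nat_lit 0)], [.ofNat (nat_lit 0), .negSucc (nat_lit 0), .ofNat (nat_lit 0), .ofNat (nat_lit 1)], [.ofNat (nat_lit 0), .negSucc (nat_lit 0), .ofNat (nat_lit 1), .negSucc (nat_lit 0)], [.ofNat (nat_lit 0), .ofNat (nat_lit 1), .negSucc (nat_lit 0), .ofNat (nat_lit 0)], [.ofNat (nat_lit 1), .negSucc (nat_lit 0), .ofNat (nat_lit 0), .ofNat (nat_lit 0)], [.negSucc (nat_lit 0), .ofNat (nat_lit 0), .ofNat (nat_lit 0), .ofNat (nat_lit 0)]]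
  par := [(nat_lit 0, nat_lit 0), (nat_lit 1, nat_lit 1), (nat_lit 2, nat_lit 2), (nat_lit 3, nat_lit 3), (nat_lit 3, nat_lit 1), (nat_lit 4, nat_lit 1), (nat_lit 5, nat_lit 0), (nat_lit 6, nat_lit 0), (nat_lit 6, nat_lit 2), (nat_lit 8, nat_lit 2), (nat_lit 9, nat_lit 1), (nat_lit 10, nat_lit 1), (nat_lit 11, nat_lit 0), (nat_lit 12, nat_lit 0), (nat_lit 12, nat_lit 2), (nat_lit 14, nat_lit 2), (nat_lit 15, nat_lit 3), (nat_lit 16, nat_lit 3), (nat_lit 16, nat_lit 1), (nat_lit 18, nat_lit 1), (nat_lit 20, nat_lit 2), (nat_lit 21, nat_lit 1), (nat_lit 22, nat_lit 0)]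
  succ := [[nat_lit 1, nat_lit 0, nat_lit 0, nat_lit 0], [nat_lit 0, nat_lit 1, nat_lit 2, nat_lit 1], [nat_lit 2, nat_lit 2, nat_lit 1, nat_lit 3], [nat_lit 3, nat_lit 4, nat_lit 5, nat_lit 2], [nat_lit 4, nat_lit 3, nat_lit 6, nat_lit 4], [nat_lit 7, nat_lit 6, nat_lit 3, nat_lit 5], [nat_lit 8, nat_lit 5, nat_lit 4, nat_lit 9], [nat_lit 5, nat_lit 8, nat_lit 7, nat_lit 7], [nat_lit 6, nat_lit 7, nat_lit 8, nat_lit 10], [nat_lit 10, nat_lit 9, nat_lit 11, nat_lit 6], [nat_lit 9, nat_lit 10, nat_lit 12, nat_lit 8], [nat_lit 13, nat_lit 11, nat_lit 9, nat_lit 11], [nat_lit 14, nat_lit 12, nat_lit 10, nat_lit 15], [nat_lit 11, nat_lit 13, nat_lit 14, nat_lit 13], [nat_lit 12, nat_lit 14, nat_lit 13, nat_lit 16], [nat_lit 16, nat_lit 17, nat_lit 15, nat_lit 12], [nat_lit 15, nat_lit 18, nat_lit 19, nat_lit 14], [nat_lit 18, nat_lit 15, nat_lit 17, nat_lit 17], [nat_lit 17, nat_lit 16, nat_lit 20, nat_lit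 18], [nat_lit 19, nat_lit 20, nat_lit 16, nat_lit 19], [nat_lit 20, nat_lit 19, nat_lit 18, nat_lit 21], [nat_lit 21, nat_lit 21, nat_lit 22, nat_lit 20], [nat_lit 23, nat_lit 22, nat_lit 21, nat_lit 22], [nat_lit 22, nat_lit 23, nat_lit 23, nat_lit 23]]
  deg := [nat_lit 0, nat_lit 1, nat_lit 2, nat_lit 3, nat_lit 4, nat_lit 4, nat_lit 5, nat_lit 5, nat_lit 6, nat_lit 6, nat_lit 7, nat_lit 7, nat_lit 8, nat_lit 8, nat_lit 9, nat_lit 9, nat_lit 10, nat_lit 10, nat_lit 11, nat_lit 11, nat_lit 12, nat_lit 13, nat_lit 14, nat_lit 15]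

/-- Orbit level 1. -/
def f4Level1 : Level where
  k := 3
  pts := [[.ofNat (nat_lit 0), .ofNat (nat_lit 0), .ofNat (nat_lit 0), .ofNat (nat_lit 1)], [.ofNat (nat_lit 0), .ofNat (nat_lit 0), .ofNat (nat_lit 1), .negSucc (nat_lit 0)], [.ofNat (nat_lit 0), .ofNat (nat_lit 2), .negSucc (nat_lit 0), .ofNat (nat_lit 0)], [.ofNat (nat_lit 2), .negSucc (nat_lit 1), .ofNat (nat_lit 1), .ofNat (nat_lit 0)], [.ofNat (nat_lit 2), .ofNat (nat_lit 0), .negSucc (nat_lit 0), .ofNat (nat_lit 1)], [.ofNat (nat_lit 2), .ofNat (nat_lit 0), .ofNat (nat_lit 0), .negSucc (nat_lit 0)]]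
  par := [(nat_lit 0, nat_lit 3), (nat_lit 1, nat_lit 2), (nat_lit 2, nat_lit 1), (nat_lit 3, nat_lit 2), (nat_lit 4, nat_lit 3)]
  succ := [[nat_lit 1, nat_lit 0, nat_lit 0], [nat_lit 0, nat_lit 1, nat_lit 2], [nat_lit 2, nat_lit 3, nat_lit 1], [nat_lit 3, nat_lit 2, nat_lit 4], [nat_lit 5, nat_lit 4, nat_lit 3], [nat_lit 4, nat_lit 5, nat_lit 5]]
  deg := [nat_lit 0, nat_lit 1, nat_lit 2, nat_lit 3, nat_lit 4, nat_lit 5]

/-- Orbit level 2. -/
def f4Level2 : Level where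
  k := 1
  pts := [[.ofNat (nat_lit 0), .ofNat (nat_lit 1), .ofNat (nat_lit 0), .ofNat (nat_lit 0)], [.ofNat (nat_lit 1), .negSucc (nat_lit 0), .ofNat (nat_lit 1), .ofNat (nat_lit 0)], [.ofNat (nat_lit 1), .ofNat (nat_lit 1), .negSucc (nat_lit 0), .ofNat (nat_lit 1)], [.ofNat (nat_lit 2), .negSucc (nat_lit 0), .ofNat (nat_lit 0), .ofNat (nat_lit 1)]]
  par := [(nat_lit 0, nat_lit 1), (nat_lit 1, nat_lit 2), (nat_lit 2, nat_lit 1)]
  succ := [[nat_lit 1, nat_lit 0], [nat_lit 0, nat_lit 2], [nat_lit 3, nat_lit 1], [nat_lit 2, nat_lit 3]]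
  deg := [nat_lit 0, nat_lit 1, nat_lit 2, nat_lit 3]

/-- Orbit level 3. -/
def f4Level3 : Level where
  k := 2
  pts := [[.ofNat (nat_lit 0), .ofNat (nat_lit 0), .ofNat (nat_lit 1), .ofNat (nat_lit 0)], [.ofNat (nat_lit 0), .ofNat (nat_lit 2), .negSucc (nat_lit 0), .ofNat (nat_lit 1)]]
  par := [(nat_lit 0, nat_lit 2)]
  succ := [[nat_lit 1], [nat_lit 0]]
  deg := [nat_lit 0, nat_lit 1]

/-- The chain of orbits. -/
def f4Levels : List Level := [f4Level0, f4Level1, f4Level2, f4Level3]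

/-- Coroot coordinates of the negative roots. -/
def f4Rows : List (List ℤ) := [[.negSucc (nat_lit 0), .negSucc (nat_lit 1), .negSucc (nat_lit 2), .negSucc (nat_lit 1)], [.negSucc (nat_lit 0), .negSucc (nat_lit 1), .negSucc (nat_lit 2), .negSucc (nat_lit 0)], [.negSucc (nat_lit 0), .negSucc (nat_lit 1), .negSucc (nat_lit 1), .negSucc (nat_lit 0)], [.negSucc (nat_lit 1), .negSucc (nat_lit 2), .negSucc (nat_lit 3), .negSucc (nat_lit 1)], [.negSucc (nat_lit 0), .negSucc (nat_lit 0), .negSucc (nat_lit 1), .negSucc (nat_lit 0)], [.negSucc (nat_lit 0), .negSucc (nat_lit 0), .negSucc (nat_lit 0), .negSucc (nat_lit 0)], [.negSucc (nat_lit 0), .negSucc (nat_lit 0), .negSucc (nat_lit 0), .ofNat (nat_lit 0)], [.negSucc (nat_lit 0), .negSucc (nat_lit 2), .negSucc (nat_lit 3), .negSucc (nat_lit 1)], [.negSucc (nat_lit 0), .negSucc (nat_lit 1), .negSucc (nat_lit 3), .negSucc (nat_lit 1)], [.negSucc (nat_lit 0),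 .negSucc (nat_lit 1), .negSucc (nat_lit 1), .negSucc (nat_lit 1)], [.negSucc (nat_lit 0), .negSucc (nat_lit 1), .negSucc (nat_lit 1), .ofNat (nat_lit 0)], [.negSucc (nat_lit 0), .negSucc (nat_lit 0), .negSucc (nat_lit 1), .negSucc (nat_lit 1)], [.negSucc (nat_lit 0), .negSucc (nat_lit 0), .negSucc (nat_lit 1), .ofNat (nat_lit 0)], [.negSucc (nat_lit 0), .negSucc (nat_lit 0), .ofNat (nat_lit 0), .ofNat (nat_lit 0)], [.negSucc (nat_lit 0), .ofNat (nat_lit 0), .ofNat (nat_lit 0), .ofNat (nat_lit 0)], [.ofNat (nat_lit 0), .negSucc (nat_lit 0), .negSucc (nat_lit 1), .negSucc (nat_lit 0)], [.ofNat (nat_lit 0), .negSucc (nat_lit 0), .negSucc (nat_lit 0), .negSucc (nat_lit 0)], [.ofNat (nat_lit 0), .negSucc (nat_lit 0), .negSucc (nat_lit 0), .ofNat (nat_lit 0)], [.ofNat (nat_lit 0), .negSucc (nat_lit 0), .negSucc (nat_lit 1), .negSucc (nat_lit 1)], [.ofNat (nat_lit 0), .negSucc (nat_lit 0), .negSucc (nat_lit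 1), .ofNat (nat_lit 0)], [.ofNat (nat_lit 0), .negSucc (nat_lit 0), .ofNat (nat_lit 0), .ofNat (nat_lit 0)], [.ofNat (nat_lit 0), .ofNat (nat_lit 0), .negSucc (nat_lit 0), .negSucc (nat_lit 0)], [.ofNat (nat_lit 0), .ofNat (nat_lit 0), .negSucc (nat_lit 0), .ofNat (nat_lit 0)], [.ofNat (nat_lit 0), .ofNat (nat_lit 0), .ofNat (nat_lit 0), .negSucc (nat_lit 0)]]

theorem f4_rows : chkRows chevF4 f4Cert f4Rows = true := by decide +kernel

theorem f4_chain : chkChain chevF4 f4Cert f4Rows f4Levels = true := by decide +kernel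

theorem f4_all : allBelow (fun i => (f4Levels.map Level.k).contains i) chevF4.rank = true := by
  decide +kernel

theorem f4_factor : chkFactor (f4Levels.map Level.deg) chevF4.rank [2, 6, 8, 12] = true := by
  decide +kernel

theorem f4_weyl_size : (f4Levels.map fun L => L.deg.length).prod = 1152 := by
  decide +kernel

theorem f4_smith : chkSmith chevF4 f4Cert [[-1, 0, 0, 0], [-2, -1, 0, 0], [-2, -2, -1, 0], [2, 3, 2, 1]]
    [[-1, 0, 0, 0], [2, -1, 0, 0], [-2, 2, -1, 0], [0, -1, 2, 1]]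
    [[0, 0, 0, 1], [1, 0, 0, 2], [0, 1, 0, 3], [0, 0, 1, 2]]
    [[-2, 1, 0, 0], [-3, 0, 1, 0], [-2, 0, 0, 1], [1, 0, 0, 0]] [1, 1, 1, 1] = true := by
  decide +kernel

/-- Orders of the products of two fundamental reflections. -/
def f4Cox : List (List ℕ) := [[1, 3, 2, 2], [3, 1, 4, 2], [2, 4, 1, 3], [2, 2, 3, 1]]

theorem f4_cox : chkCox chevF4 f4Cert (fun i j => (f4Cox.getD i []).getD j 0) = true := by
  decide +kernel

theorem f4_coxeterElement : chkOrd chevF4 f4Cert (List.range chevF4.rank) 12 = true := by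
  decide +kernel

end Cfsg.Agent.Chev
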