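import Cfsg.Agent.Chev.Poly
import Cfsg.Agent.Chev.TorusCard
import Cfsg.Agent.Chev.WeylOrders
import Cfsg.Agent.Chev.Check.G2

/-! Orbit, Cartan and Coxeter certificates of `chevG2`; computed from the frozen tables and checked by the kernel. -/

set_option autoImplicit false
set_option maxRecDepth 100000

namespace Cfsg.Agent.Chev

open Cfsg.Lie

/-- Orbit level 0. -/
def g2Level0 : Level where
  k := 0
  pts := [[.ofNat (nat_lit 1), .ofNat (nat_lit 0)], [.negSucc (nat_lit 0), .ofNat (nat_lit 1)], [.ofNat (nat_lit 2), .negSucc (nat_lit 0)], [.negSucc (nat_lit 1), .ofNat (nat_lit 1)], [.ofNat (nat_lit 1), .negSucc (nat_lit 0)], [.negSucc (nat_lit 0), .ofNat (nat_lit 0)]]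
  par := [(nat_lit 0, nat_lit 0), (nat_lit 1, nat_lit 1), (nat_lit 2, nat_lit 0), (nat_lit 3, nat_lit 1), (nat_lit 4, nat_lit 0)]
  succ := [[nat_lit 1, nat_lit 0], [nat_lit 0, nat_lit 2], [nat_lit 3, nat_lit 1], [nat_lit 2, nat_lit 4], [nat_lit 5, nat_lit 3], [nat_lit 4, nat_lit 5]]
  deg := [nat_lit 0, nat_lit 1, nat_lit 2, nat_lit 3, nat_lit 4, nat_lit 5]

/-- Orbit level 1. -/
def g2Level1 : Level where
  k := 1
  pts := [[.ofNat (nat_lit 0), .ofNat (nat_lit 1)], [.ofNat (nat_lit 3), .negSucc (nat_lit 0)]]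
  par := [(nat_lit 0, nat_lit 1)]
  succ := [[nat_lit 1], [nat_lit 0]]
  deg := [nat_lit 0, nat_lit 1]

/-- The chain of orbits. -/
def g2Levels : List Level := [g2Level0, g2Level1]

/-- Coroot coordinates of the negative roots. -/
def g2Rows : List (List ℤ) := [[.negSucc (nat_lit 0), .negSucc (nat_lit 1)], [.negSucc (nat_lit 0), .negSucc (nat_lit 0)], [.negSucc (nat_lit 1), .negSucc (nat_lit 2)], [.negSucc (nat_lit 0), .negSucc (nat_lit 2)], [.negSucc (nat_lit 0), .ofNat (nat_lit 0)], [.ofNat (nat_lit 0), .negSucc (nat_lit 0)]]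

theorem g2_rows : chkRows chevG2 g2Cert g2Rows = true := by decide +kernel

theorem g2_chain : chkChain chevG2 g2Cert g2Rows g2Levels = true := by decide +kernel

theorem g2_all : allBelow (fun i => (g2Levels.map Level.k).contains i) chevG2.rank = true := by
  decide +kernel

theorem g2_factor : chkFactor (g2Levels.map Level.deg) chevG2.rank [2, 6] = true := by
  decide +kernel

theorem g2_weyl_size : (g2Levels.map fun L => L.deg.length).prod = 12 := by
  decide +kernel

theorem g2_smith : chkSmith chevG2 g2Cert [[-1, 0], [2, 1]]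
    [[-1, 0], [2, 1]]
    [[0, 1], [1, 2]]
    [[-2, 1], [1, 0]] [1, 1] = true := by
  decide +kernel

/-- Orders of the products of two fundamental reflections. -/
def g2Cox : List (List ℕ) := [[1, 6], [6, 1]]

theorem g2_cox : chkCox chevG2 g2Cert (fun i j => (g2Cox.getD i []).getD j 0) = true := by
  decide +kernel

theorem g2_coxeterElement : chkOrd chevG2 g2Cert (List.range chevG2.rank) 6 = true := by
  decide +kernel

end Cfsg.Agent.Chev
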